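import Cfsg.Agent.H82.U6Loc.Fibre

/-!
The local data of the unitary group in dimension six at an involution which is fused.
-/

set_option autoImplicit false
set_option maxRecDepth 100000
set_option linter.unusedSectionVars false
set_option linter.style.haveILetI false

namespace H82.U6Loc

open Subgroup

theorem bits_ok : ((List.range 256).all fun v =>
    (((List.range 8).filter fun j => v.testBit j).map fun j => 2 ^ j).foldr (· ^^^ ·) 0 == v) = true := by
  decide +kernel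

variable {G : Type*} [Group G] [Finite G] {z : G} {J : Subgroup G} (D : Local z J)

open scoped Classical in
/-- The point of a conjugate. -/
noncomputable def Local.ptF (v : G) : Fin 45 :=
  if h : ∃ i : Fin 45, D.act v = tvA i then h.choose else 0

namespace Local
include D

theorem ptF_eq {i : Fin 45} {v : G} (h : D.act v = tvA i) : D.ptF v = i := by
  have hex : ∃ i : Fin 45, D.act v = tvA i := ⟨i, h⟩
  rw [ptF, dif_pos hex]
  exact Fin.ext (D.tv_inj hex.choose.2 i.2 (hex.choose_spec.symm.trans h))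

theorem perp_mem {x : G} (h : x ∈ H16.U6.Perp z) : D.Mem (D.ptF x) x := by
  obtain ⟨hz, hne, hc⟩ := h
  have hx : x ∈ centralizer ({z} : Set G) := mem_centralizer_singleton_iff.2 hc.eq
  obtain ⟨i, hi, he⟩ := D.act_conjugate hx hz hne
  rw [D.ptF_eq (i := ⟨i, hi⟩) he]
  exact ⟨hx, hz, he⟩

theorem mem_perp {p : Fin 45} {v : G} (h : D.Mem p v) : v ∈ H16.U6.Perp z ∧ D.ptF v = p :=
  ⟨⟨h.2.1, H82.U6Loc.Local.Mem.ne D p.2 h, mem_centralizer_singleton_iff.1 h.1⟩, D.ptF_eq h.2.2⟩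

theorem exists_mem (hx : ∃ g : G, g * z * g⁻¹ ∈ centralizer ({z} : Set G) ∧ g * z * g⁻¹ ≠ z)
    (p : Fin 45) : ∃ v, D.Mem p v := by
  obtain ⟨g, hg, hne⟩ := hx
  obtain ⟨i, hi, he⟩ := D.act_conjugate hg (isConj_iff.2 ⟨g, rfl⟩) hne
  obtain ⟨a, ha, hae⟩ := D.act_surj 0 (by norm_num)
  have key : ∀ q < 45, ∃ n ∈ centralizer ({z} : Set G), D.act (n * a * n⁻¹) = tvA q := by
    intro q hq
    have h := (List.all_eq_true.1 wPt_ok) q (List.mem_range.2 hq)
    simp only [Bool.and_eq_true, List.all_eq_true, beq_iff_eq] at h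
    obtain ⟨n, hn, hne⟩ := D.exists_act fun k hk => Nat.blt_eq.mp (h.1 k hk)
    obtain ⟨b, hb, hbe⟩ := D.act_surj q hq
    exact ⟨n, hn, by rw [D.act_conj_eq hn ha hb (by rw [hne, hae, hbe]; exact h.2), hbe]⟩
  obtain ⟨n, hn, hne'⟩ := key i hi
  obtain ⟨m, hm, hme⟩ := key p p.2
  have hna : n * a * n⁻¹ ∈ centralizer ({z} : Set G) := mul_mem (mul_mem hn ha) (inv_mem hn)
  have hJ := (D.act_eq_iff hna hg).1 (hne'.trans he.symm)
  have hk : m * n⁻¹ ∈ centralizer ({z} : Set G) := mul_mem hm (inv_mem hn)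
  refine ⟨m * n⁻¹ * (g * z * g⁻¹) * (m * n⁻¹)⁻¹, mul_mem (mul_mem hk hg) (inv_mem hk),
    (isConj_iff.2 ⟨g, rfl⟩ : IsConj z (g * z * g⁻¹)).trans (isConj_iff.2 ⟨_, rfl⟩), ?_⟩
  rw [← hme]
  symm
  rw [D.act_eq_iff (mul_mem (mul_mem hm ha) (inv_mem hm)) (mul_mem (mul_mem hk hg) (inv_mem hk))]
  have h2 := D.conj_mem hk hJ
  convert h2 using 1
  group

theorem coset_eq {i : ℕ} (hi : i < 45) {x y : G} (hx : D.Mem i x) (hy : D.Mem i y) : x * y = y * x := by
  have hw := D.mem_coset hi hx hy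
  have hc := D.cent_pp hi hx _ (D.fib_pl_facts hi hw hw).2.2.2.2
  calc x * y = x * (x * (x⁻¹ * y)) := by group
    _ = x * ((x⁻¹ * y) * x) := by rw [hc]
    _ = y * x := by group

theorem mem_conj {i j k : ℕ} {x y : G} (hx : D.Mem i x) (hy : D.Mem j y)
    (h : tvA k = mm (tvA i) (mm (tvA j) (tvA i))) : D.Mem k (x * y * x) := by
  have hi := inv_eq_of_mul_eq_one_right (D.isConj_C hx.2.1).1
  refine ⟨mul_mem (mul_mem hx.1 hy.1) hx.1, hy.2.1.trans (isConj_iff.2 ⟨x, by rw [hi]⟩), ?_⟩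
  rw [h, ← hx.2.2, ← hy.2.2, ← D.act_mul _ hy.1 _ hx.1, ← D.act_mul _ hx.1 _ (mul_mem hy.1 hx.1)]
  congr 1
  group

/-- A relation element in the line of a member is trivial. -/
theorem eq_one_of_vec {k : ℕ} (hk : k < 45) {u v c : G} (hu : D.Mem k u) (hv : D.Mem k v)
    (hc : c = u⁻¹ * v) (h0 : D.vec c = 0) (hJ : c ∈ J) : c = 1 := by
  obtain ⟨g, hg⟩ := isConj_iff.1 hu.2.1
  obtain ⟨-, -, -, -, -, -, hnz⟩ := D.fibre hk hu hg
  refine ((D.vec_eq_zero c hJ).1 h0).resolve_right fun e => hnz ?_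
  have h1 : u * z = v := (congrArg (u * ·) (hc.symm.trans e)).symm.trans (mul_inv_cancel_left u v)
  rw [h1]
  exact hv.2.1

theorem commute_adj {i j : Fin 45} (hA : H16.U6.Adj i j) (hne : i ≠ j) {x y : G} (hx : D.Mem i x)
    (hy : D.Mem j y) : x * y = y * x := by
  have hP := pair_ok i j
  rw [if_neg hne, if_pos hA] at hP
  obtain ⟨hmeet, hcomm, -⟩ := hP
  have hxi := inv_eq_of_mul_eq_one_right (D.isConj_C hx.2.1).1
  have hyi := inv_eq_of_mul_eq_one_right (D.isConj_C hy.2.1).1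
  have hti := (D.tv_facts i.2).1
  have htj := (D.tv_facts j.2).1
  have hx' : D.Mem i (y * x * y) := by
    refine ⟨mul_mem (mul_mem hy.1 hx.1) hy.1, hx.2.1.trans (isConj_iff.2 ⟨y, by rw [hyi]⟩), ?_⟩
    rw [D.act_mul _ (mul_mem hy.1 hx.1) _ hy.1, D.act_mul _ hy.1 _ hx.1, hx.2.2, hy.2.2, ← hcomm,
      ← hx.2.2, ← hy.2.2, ← D.act_mul _ hx.1 _ hy.1, ← D.act_mul _ (mul_mem hx.1 hy.1) _ hy.1,
      mul_assoc, (D.isConj_C hy.2.1).1, mul_one]
  have hy' : D.Mem j (x * y * x) := by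
    refine ⟨mul_mem (mul_mem hx.1 hy.1) hx.1, hy.2.1.trans (isConj_iff.2 ⟨x, by rw [hxi]⟩), ?_⟩
    rw [D.act_mul _ (mul_mem hx.1 hy.1) _ hx.1, D.act_mul _ hx.1 _ hy.1, hx.2.2, hy.2.2, hcomm,
      ← hx.2.2, ← hy.2.2, ← D.act_mul _ hy.1 _ hx.1, ← D.act_mul _ (mul_mem hy.1 hx.1) _ hx.1,
      mul_assoc, (D.isConj_C hx.2.1).1, mul_one]
  have h1 := D.mem_coset i.2 hx hx'
  have h2 := D.mem_coset j.2 hy hy'
  have hinv : (y⁻¹ * (x * y * x))⁻¹ = x⁻¹ * (y * x * y) := by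
    rw [mul_inv_rev, mul_inv_rev, mul_inv_rev, inv_inv, hxi, hyi]
    group
  have hv : D.vec (x⁻¹ * (y * x * y)) ∈ plA j := by
    rw [← hinv, D.vec_inv h2.1]; exact h2.2
  have hone := D.eq_one_of_vec i.2 hx hx' rfl (hmeet _ h1.2 hv) h1.1
  have h3 : y * x * y = x := (inv_mul_eq_one.1 hone).symm
  calc x * y = y * x * y * y := by rw [h3]
    _ = y * x := by rw [mul_assoc, (D.isConj_C hy.2.1).1, mul_one]

theorem braid_eq {i j : Fin 45} (hA : ¬ H16.U6.Adj i j) (hne : i ≠ j) {x y : G} (hx : D.Mem i x)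
    (hy : D.Mem j y) : (x * y) ^ 3 = 1 := by
  have hP := pair_ok i j
  rw [if_neg hne, if_neg hA] at hP
  obtain ⟨-, -, k, hk1, hk2, hk⟩ := hP
  have hu := D.mem_conj (k := k) hx hy hk1
  have hv := D.mem_conj (k := k) hy hx hk2
  have hxi := inv_eq_of_mul_eq_one_right (D.isConj_C hx.2.1).1
  have hyi := inv_eq_of_mul_eq_one_right (D.isConj_C hy.2.1).1
  have hu2 : (x * y * x)⁻¹ = x * y * x := by rw [mul_inv_rev, mul_inv_rev, hxi, hyi, mul_assoc]
  have hc : (x * y) ^ 3 = (x * y * x)⁻¹ * (y * x * y) := by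
    rw [hu2, pow_succ, pow_two]; group
  have hw := D.mem_coset k.2 hu hv
  rw [← hc] at hw
  have hinv : ((x * y) ^ 3)⁻¹ = (x * y) ^ 3 :=
    inv_eq_of_mul_eq_one_right (D.fib_pl_facts k.2 hw hw).2.2.1
  have hfix : x * (x * y) ^ 3 * x⁻¹ = (x * y) ^ 3 := by
    conv_rhs => rw [← hinv, ← inv_pow, mul_inv_rev, hxi, hyi]
    rw [← conj_pow, hxi]
    congr 1
    rw [← mul_assoc, (D.isConj_C hx.2.1).1, one_mul]
  have hpp : D.vec ((x * y) ^ 3) ∈ ppA i := by
    refine ((D.tv_facts i.2).2.2.2 _ (D.vec_lt _ hw.1)).2.1 ?_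
    rw [← hx.2.2, ← D.act_conj _ hx.1 _ hw.1, hfix]
  exact D.eq_one_of_vec k.2 hu hv hc (hk _ hw.2 hpp) hw.1

theorem five_eq {p : Fin 45} {a b c d : G} (ha : D.Mem p a) (hb : D.Mem p b) (hc : D.Mem p c)
    (hd : D.Mem p d) (hab : a ≠ b) (hac : a ≠ c) (had : a ≠ d) (hbc : b ≠ c) (hbd : b ≠ d)
    (hcd : c ≠ d) : a * b * c * d = z := by
  classical
  obtain ⟨g, hg⟩ := isConj_iff.1 ha.2.1
  obtain ⟨S, hS, hzS, hSf, hmem, -, -⟩ := D.fibre p.2 ha hg
  obtain ⟨u, hu, hu1, rfl⟩ := ((hmem b).1 hb).resolve_left hab.symm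
  obtain ⟨v, hv, hv1, rfl⟩ := ((hmem c).1 hc).resolve_left hac.symm
  obtain ⟨w, hw, hw1, rfl⟩ := ((hmem d).1 hd).resolve_left had.symm
  have huv : u ≠ v := fun e => hbc (by rw [e])
  have huw : u ≠ w := fun e => hbd (by rw [e])
  have hvw : v ≠ w := fun e => hcd (by rw [e])
  have hsub : ({1, u, v, w} : Set G) ⊆ S := by
    rintro t (rfl | rfl | rfl | rfl)
    exacts [S.one_mem, hu, hv, hw]
  have h4 : ({1, u, v, w} : Set G).ncard = 4 := by
    rw [Set.ncard_insert_of_notMem (by simp [Ne.symm hu1, Ne.symm hv1, Ne.symm hw1]),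
      Set.ncard_insert_of_notMem (by simp [huv, huw]), Set.ncard_pair hvw]
  have heq := Set.eq_of_subset_of_ncard_le hsub
    (by rw [h4]; exact (Nat.card_coe_set_eq _).symm.trans hS |>.le) (Set.toFinite _)
  have hf : ∀ {s}, s ∈ S → s ∈ D.fib (plA p) := fun hs => (hSf _ hs).1
  have huvw : u * v = w := by
    have hmemuv : u * v ∈ ({1, u, v, w} : Set G) := heq.symm ▸ S.mul_mem hu hv
    rcases hmemuv with e | e | e | e
    · refine absurd ?_ huv
      rw [← inv_eq_of_mul_eq_one_right e]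
      exact (inv_eq_of_mul_eq_one_right (D.fib_pl_facts p.2 (hf hu) (hf hu)).2.2.1).symm
    · exact absurd (mul_eq_left.1 e) hv1
    · exact absurd (mul_eq_right.1 e) hu1
    · exact e
  have hz := D.z_mem_pl p.2
  have hzw : ∀ {s}, s ∈ S → (a * (z * s) = z * s * a ∧ z * s = s * z) := fun hs =>
    ⟨D.cent_pp p.2 ha _ (D.fib_pl_facts p.2 (D.fib_pl_facts p.2 hz (hf hs)).1 hz).2.2.2.2,
      (D.fib_pl_facts p.2 hz (hf hs)).2.2.2.1⟩
  have ha2 := (D.isConj_C ha.2.1).1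
  have hw2 : w * w = 1 := (D.fib_pl_facts p.2 (hf hw) (hf hw)).2.2.1
  calc a * (a * (z * u)) * (a * (z * v)) * (a * (z * w))
      = a * a * (z * u) * a * ((z * v) * a) * (z * w) := by group
    _ = a * a * (z * u) * a * (a * (z * v)) * (z * w) := by rw [(hzw hv).1]
    _ = a * a * (z * u) * (a * a) * (z * v) * (z * w) := by group
    _ = z * (u * z) * v * (z * w) := by rw [ha2]; group
    _ = z * (z * u) * v * (z * w) := by rw [(hzw hu).2]
    _ = z * z * (u * v) * (z * w) := by group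
    _ = (w * z) * w := by rw [D.z_sq, huvw]; group
    _ = z * (w * w) := by rw [← (hzw hw).2]; group
    _ = z := by rw [hw2, mul_one]

theorem closure_perp_eq (hx : ∃ g : G, g * z * g⁻¹ ∈ centralizer ({z} : Set G) ∧ g * z * g⁻¹ ≠ z) :
    closure (H16.U6.Perp z) = centralizer ({z} : Set G) := by
  classical
  set K := closure (H16.U6.Perp z) with hK
  have hmemK : ∀ {p : Fin 45} {v : G}, D.Mem p v → v ∈ K := fun h => subset_closure (D.mem_perp h).1
  have hpl : ∀ p : Fin 45, ∀ s ∈ plA p, ∃ a ∈ J, a ∈ K ∧ D.vec a = s := by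
    intro p
    obtain ⟨x, hxM⟩ := D.exists_mem hx p
    obtain ⟨g, hg⟩ := isConj_iff.1 hxM.2.1
    obtain ⟨S, hS, hzS, hSf, hmem, -, -⟩ := D.fibre p.2 hxM hg
    have hSK : ∀ d ∈ S, d = 1 ∨ z * d ∈ K := fun d hd => by
      rcases eq_or_ne d 1 with e | e
      · exact Or.inl e
      · refine Or.inr ?_
        have := K.mul_mem (K.inv_mem (hmemK hxM)) (hmemK ((hmem _).2 (Or.inr ⟨d, hd, e, rfl⟩)))
        rwa [inv_mul_cancel_left] at this
    haveI := Fintype.ofFinite S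
    let f : S → {s // s ∈ plA p} := fun d => ⟨D.vec d, (hSf _ d.2).1.2⟩
    have hf : Function.Injective f := fun a b e => by
      rcases (D.vec_eq_iff (hSf _ a.2).1.1 (hSf _ b.2).1.1).1 (congrArg Subtype.val e) with h | h
      · exact Subtype.ext h.symm
      · refine absurd ?_ hzS
        rw [show z = (a : G)⁻¹ * b by rw [h, inv_mul_cancel_left]]
        exact S.mul_mem (S.inv_mem a.2) b.2
    have hbij : Function.Bijective f := by
      obtain ⟨hlen, hnd, -, -⟩ := D.pl_facts p.2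
      refine hf.bijective_of_nat_card_le ?_
      rw [hS, Nat.card_congr (Equiv.subtypeEquivRight fun s => (List.mem_toFinset (l := plA p)).symm),
        Nat.card_eq_fintype_card, Fintype.card_coe, List.toFinset_card_of_nodup hnd, hlen]
    intro s hs
    obtain ⟨d, hd⟩ := hbij.2 ⟨s, hs⟩
    rcases hSK d d.2 with e | e
    · refine ⟨1, J.one_mem, K.one_mem, ?_⟩
      rw [← e]; exact congrArg Subtype.val hd
    · refine ⟨z * d, J.mul_mem D.z_mem (hSf _ d.2).1.1, e, ?_⟩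
      rw [D.vec_mul _ D.z_mem _ (hSf _ d.2).1.1, D.vec_z, Nat.zero_xor]
      exact congrArg Subtype.val hd
  have hzK : z ∈ K := by
    obtain ⟨a, ha⟩ := D.exists_mem hx 0
    obtain ⟨g, hg⟩ := isConj_iff.1 ha.2.1
    obtain ⟨S, hS, hzS, hSf, hmem, hcard, -⟩ := D.fibre (0 : Fin 45).2 ha hg
    have hS3 : ((S : Set G) \ {1}).ncard = 3 := by
      rw [Set.ncard_sdiff_singleton_of_mem S.one_mem, show (S : Set G).ncard = 4 from
        (Nat.card_coe_set_eq _).symm.trans hS]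
    obtain ⟨u, v, w, huv, huw, hvw, he⟩ := Set.ncard_eq_three.1 hS3
    have hm : ∀ t ∈ ({u, v, w} : Set G), D.Mem (0 : Fin 45) (a * (z * t)) ∧ a ≠ a * (z * t) := by
      intro t ht
      rw [← he] at ht
      refine ⟨(hmem _).2 (Or.inr ⟨t, ht.1, ht.2, rfl⟩), fun e => hzS ?_⟩
      have h1 : z * t = 1 := mul_eq_left.1 e.symm
      rw [eq_inv_of_mul_eq_one_left h1]
      exact S.inv_mem ht.1
    have hinj : ∀ {s t : G}, s ≠ t → a * (z * s) ≠ a * (z * t) := fun h e =>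
      h (mul_left_cancel (mul_left_cancel e))
    rw [← D.five_eq ha (hm u (by simp)).1 (hm v (by simp)).1 (hm w (by simp)).1 (hm u (by simp)).2
      (hm v (by simp)).2 (hm w (by simp)).2 (hinj huv) (hinj huw) (hinj hvw)]
    exact K.mul_mem (K.mul_mem (K.mul_mem (hmemK ha) (hmemK (hm u (by simp)).1))
      (hmemK (hm v (by simp)).1)) (hmemK (hm w (by simp)).1)
  -- every vector is reached
  have hvec : ∀ l : List ℕ, (∀ s ∈ l, ∃ a ∈ J, a ∈ K ∧ D.vec a = s) →
      ∃ a ∈ J, a ∈ K ∧ D.vec a = l.foldr (· ^^^ ·) 0 := fun l => by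
    induction l with
    | nil => exact fun _ => ⟨1, J.one_mem, K.one_mem, D.vec_one⟩
    | cons s l ih =>
      intro hl
      obtain ⟨a, ha, haK, hav⟩ := hl s (List.mem_cons_self ..)
      obtain ⟨b, hb, hbK, hbv⟩ := ih fun t ht => hl t (List.mem_cons_of_mem _ ht)
      exact ⟨a * b, J.mul_mem ha hb, K.mul_mem haK hbK, by
        rw [D.vec_mul _ ha _ hb, hav, hbv]; rfl⟩
  have hplV : plV.length = 45 := by decide +kernel
  have hJK : J ≤ K := fun a ha => by
    have hb := (List.all_eq_true.1 bits_ok) _ (List.mem_range.2 (D.vec_lt a ha))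
    rw [beq_iff_eq] at hb
    obtain ⟨b, hbJ, hbK, hbv⟩ := hvec
      (((List.range 8).filter fun j => (D.vec a).testBit j).map fun j => 2 ^ j) fun s hs => by
      obtain ⟨j, hj, rfl⟩ := List.mem_map.1 hs
      have h := (List.all_eq_true.1 span_ok) j (List.mem_filter.1 hj).1
      simp only [Bool.and_eq_true, beq_iff_eq, List.all_eq_true, List.any_eq_true,
        List.contains_iff_mem] at h
      rw [← h.1]
      refine hvec _ fun t ht => ?_
      obtain ⟨q, hq, htq⟩ := h.2 t ht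
      obtain ⟨i, hi, rfl⟩ := List.getElem_of_mem hq
      exact hpl ⟨i, hplV ▸ hi⟩ t (by rw [plA, List.getD_eq_getElem (hn := hi)]; exact htq)
    rw [hb] at hbv
    rcases (D.vec_eq_iff hbJ ha).1 hbv with e | e
    · exact e.symm ▸ hbK
    · exact e.symm ▸ K.mul_mem hbK hzK
  refine le_antisymm ((closure_le _).2 fun v hv => mem_centralizer_singleton_iff.2 hv.2.2.eq)
    fun c hc => ?_
  obtain ⟨w, hw, hwc⟩ := D.act_word c hc
  have key : ∀ w : List ℕ, (∀ i ∈ w, i < 45) →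
      ∃ u ∈ K, u ∈ centralizer ({z} : Set G) ∧ D.act u = ev w := fun w => by
    induction w with
    | nil => exact fun _ => ⟨1, K.one_mem, one_mem _, D.act_one⟩
    | cons i w ih =>
      intro hw
      obtain ⟨x, hxM⟩ := D.exists_mem hx ⟨i, hw i (List.mem_cons_self ..)⟩
      obtain ⟨u, huK, huC, hue⟩ := ih fun j hj => hw j (List.mem_cons_of_mem _ hj)
      exact ⟨x * u, K.mul_mem (hmemK hxM) huK, mul_mem hxM.1 huC, by
        rw [D.act_mul _ hxM.1 _ huC, hxM.2.2, hue]; rfl⟩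
  obtain ⟨u, huK, huC, hue⟩ := key w hw
  have := K.mul_mem huK (hJK ((D.act_eq_iff huC hc).1 (hue.trans hwc.symm)))
  rwa [mul_inv_cancel_left] at this

end Local

variable {G : Type*} [Group G] [Finite G] {z : G} {J : Subgroup G}

/-- A fused involution with the local hypotheses carries the local data of the unitary group. -/
theorem loc (D : Local z J)
    (hx : ∃ g : G, g * z * g⁻¹ ∈ centralizer ({z} : Set G) ∧ g * z * g⁻¹ ≠ z) :
    ∃ pt, H16.U6.Loc z pt := by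
  refine ⟨D.ptF, ?_⟩
  have hperp : ∀ {a : G}, a ∈ H16.U6.Perp z → D.Mem (D.ptF a) a := fun ha => D.perp_mem ha
  constructor
  · exact D.z_sq
  · exact D.z_ne
  · intro p
    obtain ⟨v, hv⟩ := D.exists_mem hx p
    exact ⟨v, D.mem_perp hv⟩
  · intro p
    obtain ⟨v, hv⟩ := D.exists_mem hx p
    obtain ⟨g, hg⟩ := isConj_iff.1 hv.2.1
    obtain ⟨-, -, -, -, -, hcard, -⟩ := D.fibre p.2 hv hg
    rw [← hcard]
    congr 1
    ext u
    exact ⟨fun ⟨hu, hp⟩ => hp ▸ hperp hu, fun hu => D.mem_perp hu⟩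
  · intro x hx' y hy'
    have hX := hperp hx'
    have hY := hperp hy'
    refine ⟨fun hc => ?_, ?_⟩
    · by_contra hno
      push Not at hno
      have hP := pair_ok (D.ptF x) (D.ptF y)
      rw [if_neg hno.1, if_neg hno.2] at hP
      refine hP.2.1 ?_
      rw [← hX.2.2, ← hY.2.2, ← D.act_mul _ hX.1 _ hY.1, ← D.act_mul _ hY.1 _ hX.1, hc.eq]
    · intro h
      by_cases he : D.ptF x = D.ptF y
      · exact D.coset_eq (D.ptF x).2 hX (he ▸ hY)
      · exact D.commute_adj (h.resolve_left he) he hX hY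
  · intro x hx' y hy' hc
    have hX := hperp hx'
    have hY := hperp hy'
    have hne : D.ptF x ≠ D.ptF y := fun e => hc (D.coset_eq (D.ptF x).2 hX (e ▸ hY))
    have hA : ¬ H16.U6.Adj (D.ptF x) (D.ptF y) := fun h => hc (D.commute_adj h hne hX hY)
    exact D.braid_eq hA hne hX hY
  · intro a ha b hb c hc d hd hab hac had hbc hbd hcd e1 e2 e3
    exact D.five_eq (hperp ha) (e1 ▸ hperp hb) (e2 ▸ hperp hc) (e3 ▸ hperp hd) hab hac had hbc hbd hcd
  · intro x hx' y hy' hne hp g hg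
    have hX := hperp hx'
    have hY : D.Mem (D.ptF x) y := hp ▸ hperp hy'
    obtain ⟨S, hS, -, hSf, hmem, -, -⟩ := D.fibre (D.ptF x).2 hX hg
    obtain ⟨d, hd, hd1, rfl⟩ := ((hmem y).1 hY).resolve_left hne.symm
    have hzA : g⁻¹ * z * g ∈ centralizer ({z} : Set G) := mem_centralizer_singleton_iff.2 (by
      calc g⁻¹ * z * g * z = g⁻¹ * (z * (g * z * g⁻¹)) * g := by group
        _ = g⁻¹ * ((g * z * g⁻¹) * z) * g := by rw [hg, D.zc hX.1]
        _ = z * (g⁻¹ * z * g) := by group)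
    have hyB : g⁻¹ * (x * (z * d)) * g ∈ centralizer ({z} : Set G) :=
      mem_centralizer_singleton_iff.2 (by
        have hcy := D.coset_eq (D.ptF x).2 hX hY
        calc g⁻¹ * (x * (z * d)) * g * z = g⁻¹ * (x * (z * d) * (g * z * g⁻¹)) * g := by group
          _ = g⁻¹ * ((g * z * g⁻¹) * (x * (z * d))) * g := by rw [hg, hcy]
          _ = z * (g⁻¹ * (x * (z * d)) * g) := by group)
    have he : D.act (g⁻¹ * z * g) = D.act (g⁻¹ * (x * (z * d)) * g) := by
      rw [D.act_eq_iff hzA hyB]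
      have hxz : x * z = z * x := D.zc hX.1
      rw [show (g⁻¹ * z * g)⁻¹ * (g⁻¹ * (x * (z * d)) * g) = g⁻¹ * (z⁻¹ * (x * z) * d) * g by group,
        hxz, inv_mul_cancel_left, ← hg,
        show g⁻¹ * (g * z * g⁻¹ * d) * g = z * (g⁻¹ * d * g) by group]
      exact J.mul_mem D.z_mem (hSf d hd).2
    unfold Local.ptF
    simp only [he]
  · intro x hx' y hy' hA
    have hX := hperp hx'
    have hY := hperp hy'
    have hne : D.ptF x ≠ D.ptF y := fun e => H16.U6.adj_irrefl _ (e ▸ hA)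
    have hP := pair_ok (D.ptF x) (D.ptF y)
    rw [if_neg hne, if_pos hA] at hP
    have hxy : x * y ∈ centralizer ({z} : Set G) := mul_mem hX.1 hY.1
    have key : ∀ v ∈ centralizer ({z} : Set G), D.act v = mm (tvA (D.ptF x)) (tvA (D.ptF y)) →
        ¬ IsConj z v := by
      intro v hv hva hconj
      have hne' : v ≠ z := fun e => hP.2.2.2 (by rw [← hva, e, (D.act_one_iff _ D.z_mem_C).2 D.z_mem])
      obtain ⟨i, hi, hie⟩ := D.act_conjugate hv hconj hne'
      exact hP.2.2.1 (hva ▸ hie ▸ (D.tv_facts hi).2.2.1)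
    have hact : D.act (x * y) = mm (tvA (D.ptF x)) (tvA (D.ptF y)) := by
      rw [D.act_mul _ hX.1 _ hY.1, hX.2.2, hY.2.2]
    refine ⟨key _ hxy hact, key _ (mul_mem hxy D.z_mem_C) ?_⟩
    rw [← hact]
    exact ((D.act_eq_iff hxy (mul_mem hxy D.z_mem_C)).2 (by
      rw [inv_mul_cancel_left]; exact D.z_mem)).symm
  · exact D.card_C
  · exact D.closure_perp_eq hx

end H82.U6Loc
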