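import Cfsg.Agent.H82.U6Loc.Cert
import Cfsg.Agent.H33.FiLocal.Count

/-!
An extraspecial group of order `2 ^ 9` with the unitary group in dimension four acting on it: first
consequences of the interface.
-/

set_option autoImplicit false
set_option linter.unusedSectionVars false
set_option linter.style.haveILetI false
set_option linter.unusedSimpArgs false

namespace H82.U6Loc

open Subgroup

/-- The local hypotheses at `z`. -/
structure Local {G : Type*} [Group G] (z : G) (J : Subgroup G) where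
  /-- coordinates of an element of `J` modulo `z` -/
  vec : G → ℕ
  /-- the matrix of an element of the centraliser -/
  act : G → List ℕ
  z_mem : z ∈ J
  J_le : J ≤ centralizer ({z} : Set G)
  J_norm : centralizer ({z} : Set G) ≤ normalizer (J : Set G)
  card_J : Nat.card J = 2 ^ 9
  vec_lt : ∀ a ∈ J, vec a < 256
  vec_mul : ∀ a ∈ J, ∀ b ∈ J, vec (a * b) = vec a ^^^ vec b
  vec_eq_zero : ∀ a ∈ J, vec a = 0 ↔ a = 1 ∨ a = z
  sq : ∀ a ∈ J, a * a = if qv (vec a) then z else 1
  act_conj : ∀ c ∈ centralizer ({z} : Set G), ∀ a ∈ J, vec (c * a * c⁻¹) = ap (act c) (vec a)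
  act_mul : ∀ c ∈ centralizer ({z} : Set G), ∀ d ∈ centralizer ({z} : Set G),
    act (c * d) = mm (act c) (act d)
  act_one_iff : ∀ c ∈ centralizer ({z} : Set G), act c = mI ↔ c ∈ J
  act_surj : ∀ i < 45, ∃ c ∈ centralizer ({z} : Set G), act c = tvA i
  act_word : ∀ c ∈ centralizer ({z} : Set G), ∃ w : List ℕ, (∀ i ∈ w, i < 45) ∧ act c = ev w
  card_C : Nat.card (centralizer ({z} : Set G)) = 2 ^ 9 * 25920
  weak : ∀ g : G, g * z * g⁻¹ ∈ J → g * z * g⁻¹ = z

namespace Local

variable {G : Type*} [Group G] [Finite G] {z : G} {J : Subgroup G} (D : Local z J)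
include D

theorem z_mem_C : z ∈ centralizer ({z} : Set G) := mem_centralizer_singleton_iff.2 rfl

theorem zc {a : G} (ha : a ∈ centralizer ({z} : Set G)) : a * z = z * a :=
  mem_centralizer_singleton_iff.1 ha

theorem vec_one : D.vec 1 = 0 := (D.vec_eq_zero 1 J.one_mem).2 (Or.inl rfl)

theorem vec_z : D.vec z = 0 := (D.vec_eq_zero z D.z_mem).2 (Or.inr rfl)

theorem z_sq : z * z = 1 := by
  rw [D.sq z D.z_mem, D.vec_z]
  rfl

theorem z_inv : z⁻¹ = z := inv_eq_of_mul_eq_one_right D.z_sq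

theorem vec_inv {a : G} (ha : a ∈ J) : D.vec a⁻¹ = D.vec a := by
  have h := D.vec_mul a ha a⁻¹ (inv_mem ha)
  rw [mul_inv_cancel, D.vec_one] at h
  exact (Nat.xor_eq_zero_iff.1 h.symm).symm

theorem vec_eq_iff {a b : G} (ha : a ∈ J) (hb : b ∈ J) :
    D.vec a = D.vec b ↔ b = a ∨ b = a * z := by
  have h : D.vec (a⁻¹ * b) = D.vec a ^^^ D.vec b := by
    rw [D.vec_mul _ (inv_mem ha) _ hb, D.vec_inv ha]
  refine ⟨fun e => ?_, ?_⟩
  · rw [e, Nat.xor_self, D.vec_eq_zero _ (mul_mem (inv_mem ha) hb), inv_mul_eq_one,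
      inv_mul_eq_iff_eq_mul] at h
    exact h.imp (fun e => e.symm) id
  · rintro (rfl | rfl)
    · rfl
    · rw [D.vec_mul _ ha _ D.z_mem, D.vec_z, Nat.xor_zero]

theorem z_ne : z ≠ 1 := by
  intro h
  let f : J → Fin 256 := fun a => ⟨D.vec a, D.vec_lt a a.2⟩
  have := Nat.card_le_card_of_injective f fun a b e => Subtype.ext (by
    rcases (D.vec_eq_iff a.2 b.2).1 (congrArg Fin.val e) with e | e
    · exact e.symm
    · exact ((h ▸ e).trans (mul_one _)).symm)
  rw [D.card_J, Nat.card_fin] at this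
  norm_num at this

theorem exists_vec {v : ℕ} (hv : v < 256) : ∃ a ∈ J, D.vec a = v := by
  classical
  haveI := Fintype.ofFinite J
  let f : J → Fin 256 := fun a => ⟨D.vec a, D.vec_lt a a.2⟩
  have hle := Finset.card_le_mul_card_image (Finset.univ : Finset J) 2 (f := f) fun b hb => by
    obtain ⟨a, -, rfl⟩ := Finset.mem_image.1 hb
    refine le_trans (Finset.card_le_card (t := {a, a * ⟨z, D.z_mem⟩}) fun c hc => ?_) Finset.card_le_two
    rw [Finset.mem_insert, Finset.mem_singleton]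
    rcases (D.vec_eq_iff a.2 c.2).1 (congrArg Fin.val (Finset.mem_filter.1 hc).2).symm with e | e
    exacts [Or.inl (Subtype.ext e), Or.inr (Subtype.ext e)]
  rw [Finset.card_univ, ← Nat.card_eq_fintype_card, D.card_J] at hle
  have htop : Finset.univ.image f = Finset.univ := Finset.eq_univ_of_card _ (le_antisymm
    (Finset.card_le_univ _) (by rw [Fintype.card_fin]; omega))
  obtain ⟨a, -, ha⟩ := Finset.mem_image.1 (htop.symm ▸ Finset.mem_univ (⟨v, hv⟩ : Fin 256))
  exact ⟨a, a.2, congrArg Fin.val ha⟩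

theorem comm_J {a b : G} (ha : a ∈ J) (hb : b ∈ J) :
    a * b = if bv (D.vec a) (D.vec b) then b * a * z else b * a := by
  have hz := D.z_sq
  have c1 : a * z = z * a := zc D (D.J_le ha)
  have c2 : b * z = z * b := zc D (D.J_le hb)
  have h : b * a = a⁻¹ * (a * b * (a * b)) * b⁻¹ := by group
  have ia : a⁻¹ = if qv (D.vec a) then a * z else a := by
    refine inv_eq_of_mul_eq_one_right ?_
    have := D.sq a ha
    split_ifs at this ⊢
    · rw [← mul_assoc, this, hz]
    · exact this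
  have ib : b⁻¹ = if qv (D.vec b) then b * z else b := by
    refine inv_eq_of_mul_eq_one_right ?_
    have := D.sq b hb
    split_ifs at this ⊢
    · rw [← mul_assoc, this, hz]
    · exact this
  rw [D.sq _ (mul_mem ha hb), D.vec_mul a ha b hb, ia, ib] at h
  have zz : ∀ x : G, z * (z * x) = x := fun x => by rw [← mul_assoc, hz, one_mul]
  have ca : ∀ x : G, a * (z * x) = z * (a * x) := fun x => by rw [← mul_assoc, c1, mul_assoc]
  have cb : ∀ x : G, b * (z * x) = z * (b * x) := fun x => by rw [← mul_assoc, c2, mul_assoc]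
  have ha2 : a * a = if qv (D.vec a) then z else 1 := D.sq a ha
  have hb2 : b * b = if qv (D.vec b) then z else 1 := D.sq b hb
  have aa : ∀ x : G, a * (a * x) = (if qv (D.vec a) then z else 1) * x := fun x => by
    rw [← mul_assoc, ha2]
  rw [bv, h]
  cases hA : qv (D.vec a) <;> cases hB : qv (D.vec b) <;> cases qv (D.vec a ^^^ D.vec b) <;>
    simp [hA, hB] at ha2 hb2 aa ⊢ <;> simp [mul_assoc, hz, c1, c2, ca, cb, zz, ha2, hb2, aa]

theorem comm_iff {a b : G} (ha : a ∈ J) (hb : b ∈ J) :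
    a * b = b * a ↔ bv (D.vec a) (D.vec b) = false := by
  rw [D.comm_J ha hb]
  cases bv (D.vec a) (D.vec b)
  · simp
  · simp [D.z_ne]

theorem conj_J {a b : G} (ha : a ∈ J) (hb : b ∈ J) : a * b * a⁻¹ = b ∨ a * b * a⁻¹ = b * z := by
  have hz : z * a⁻¹ = a⁻¹ * z := (zc D (inv_mem (D.J_le ha))).symm
  rw [D.comm_J ha hb]
  split_ifs
  · right; rw [mul_assoc, hz, ← mul_assoc, mul_inv_cancel_right]
  · left; rw [mul_inv_cancel_right]

theorem conj_mem {c a : G} (hc : c ∈ centralizer ({z} : Set G)) (ha : a ∈ J) : c * a * c⁻¹ ∈ J :=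
  (mem_normalizer_iff.1 (D.J_norm hc) a).1 ha

theorem act_one : D.act 1 = mI := (D.act_one_iff 1 (one_mem _)).2 (one_mem _)

theorem act_eq_iff {c d : G} (hc : c ∈ centralizer ({z} : Set G))
    (hd : d ∈ centralizer ({z} : Set G)) : D.act c = D.act d ↔ c⁻¹ * d ∈ J := by
  refine ⟨fun h => ?_, fun h => ?_⟩
  · refine (D.act_one_iff _ (mul_mem (inv_mem hc) hd)).1 ?_
    rw [D.act_mul _ (inv_mem hc) _ hd, ← h, ← D.act_mul _ (inv_mem hc) _ hc, inv_mul_cancel,
      D.act_one]
  · calc D.act c = D.act (c * 1) := by rw [mul_one]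
      _ = D.act (c * (c⁻¹ * d)) := by
        rw [D.act_mul _ hc _ (one_mem _), D.act_mul _ hc _ (D.J_le h), D.act_one,
          (D.act_one_iff _ (D.J_le h)).2 h]
      _ = _ := by rw [mul_inv_cancel_left]

theorem exists_act {w : List ℕ} (hw : ∀ i ∈ w, i < 45) :
    ∃ c ∈ centralizer ({z} : Set G), D.act c = ev w := by
  induction w with
  | nil => exact ⟨1, one_mem _, D.act_one⟩
  | cons i w ih =>
    obtain ⟨c, hc, he⟩ := ih fun j hj => hw j (List.mem_cons_of_mem _ hj)
    obtain ⟨d, hd, hde⟩ := D.act_surj i (hw i (List.mem_cons_self ..))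
    exact ⟨d * c, mul_mem hd hc, by rw [D.act_mul _ hd _ hc, hde, he]; rfl⟩

/-- Conjugation through the matrices. -/
theorem act_conj_eq {n x y : G} (hn : n ∈ centralizer ({z} : Set G))
    (hx : x ∈ centralizer ({z} : Set G)) (hy : y ∈ centralizer ({z} : Set G))
    (h : mm (D.act n) (D.act x) = mm (D.act y) (D.act n)) : D.act (n * x * n⁻¹) = D.act y := by
  rw [← D.act_mul _ hn _ hx, ← D.act_mul _ hy _ hn] at h
  rw [D.act_mul _ (mul_mem hn hx) _ (inv_mem hn), h, ← D.act_mul _ (mul_mem hy hn) _ (inv_mem hn),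
    mul_inv_cancel_right]

theorem isConj_C {v : G} (h : IsConj z v) : v * v = 1 ∧ v ≠ 1 := by
  obtain ⟨g, rfl⟩ := isConj_iff.1 h
  exact ⟨by rw [show g * z * g⁻¹ * (g * z * g⁻¹) = g * (z * z) * g⁻¹ by group, D.z_sq]; group,
    fun e => D.z_ne (conj_eq_one_iff.1 e)⟩

theorem weak' {v : G} (h : IsConj z v) (hv : v ∈ J) : v = z := by
  obtain ⟨g, rfl⟩ := isConj_iff.1 h
  exact D.weak g hv

end Local

end H82.U6Loc
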