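import Cfsg.Agent.H82.U6Loc.Data
import Cfsg.Agent.H16.Fi24.U6Loc

/-!
Finite facts about the unitary group in dimension four acting on 256 coded vectors.
-/

set_option autoImplicit false
set_option maxRecDepth 100000

namespace H82.U6Loc

/-- The image of a vector under a matrix given by its columns. -/
def ap : List ℕ → ℕ → ℕ
  | [], _ => 0
  | a :: A, v => (if v % 2 = 1 then a else 0) ^^^ ap A (v / 2)

/-- Product of matrices. -/
def mm (A B : List ℕ) : List ℕ := B.map (ap A)

/-- The identity matrix. -/
def mI : List ℕ := [1, 2, 4, 8, 16, 32, 64, 128]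

/-- The transvection at a point. -/
def tvA (i : ℕ) : List ℕ := tvM.getD i []

/-- The value of a word. -/
def ev : List ℕ → List ℕ
  | [] => mI
  | i :: w => mm (tvA i) (ev w)

/-- The quadratic form: the parity of the number of nonzero coordinates. -/
def qv (v : ℕ) : Bool :=
  let x := (v ||| v / 2) &&& 85
  Nat.beq ((x + x / 4 + x / 16 + x / 64) % 2) 1

/-- The polar form. -/
def bv (u v : ℕ) : Bool := Bool.xor (qv (u ^^^ v)) (Bool.xor (qv u) (qv v))

/-- The vectors of a point. -/
def plA (i : ℕ) : List ℕ := plV.getD i []

/-- Perpendicular of a point. -/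
def ppA (i : ℕ) : List ℕ := (List.range 256).filter fun v => (plA i).all fun s => !bv v s

/-- The elementary subgroup of order sixteen fixing the line pointwise. -/
def rAll : List (List ℕ) := mI :: rB ++ lnP.map tvA

/-- An involution. -/
def isInv (s : List ℕ) : Bool := mm s s == mI && !(s == mI)

theorem tv_ok : ((List.range 45).all fun i =>
    mm (tvA i) (tvA i) == mI && !(tvA i == mI) && (List.range 256).all fun v =>
      (plA i).contains (v ^^^ ap (tvA i) v) &&
      ((ap (tvA i) v == v) == (ppA i).contains v)) = true := by decide +kernel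

theorem pl_ok : ((List.range 45).all fun i =>
    Nat.beq (plA i).length 4 && decide (plA i).Nodup && (plA i).contains 0 &&
    (plA i).all fun s => Nat.blt s 256 && !qv s && (ppA i).contains s &&
      (List.range 256).any fun v => Nat.beq (v ^^^ ap (tvA i) v) s) = true := by decide +kernel

theorem pp_ok : ((List.range 45).all fun i =>
    Nat.beq (ppA i).length 64 && (List.range 256).all fun v =>
      (plA i).contains v || (ppA i).any fun u => bv v u) = true := by decide +kernel

theorem pair_ok : ∀ i j : Fin 45,
    if i = j then True else
      (∀ s ∈ plA i, s ∈ plA j → s = 0) ∧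
      if H16.U6.Adj i j then
        mm (tvA i) (tvA j) = mm (tvA j) (tvA i) ∧ mm (tvA i) (tvA j) ∉ tvM ∧ mm (tvA i) (tvA j) ≠ mI
      else
        mm (tvA i) (tvA j) ≠ mm (tvA j) (tvA i) ∧ ∃ k : Fin 45,
          tvA k = mm (tvA i) (mm (tvA j) (tvA i)) ∧ tvA k = mm (tvA j) (mm (tvA i) (tvA j)) ∧
          ∀ s ∈ plA k, s ∈ ppA i → s = 0 := by decide +kernel

theorem tv_len : tvM.length = 45 := by decide +kernel

theorem tv_nodup : tvM.Nodup := by decide +kernel

theorem ln_ok : (Nat.beq lnV.length 16 && decide lnV.Nodup && lnV.contains 0 &&
    (lnV.all fun s => Nat.blt s 256 && !qv s && lnV.all fun t => !bv s t && lnV.contains (s ^^^ t)) &&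
    (List.range 256).all fun v => lnV.contains v || lnV.any fun u => bv v u) = true := by decide +kernel

theorem lnP_ok : (Nat.beq lnP.length 5 && lnP.all fun i => Nat.blt i 45 &&
    (plA i).all fun s => lnV.contains s) = true := by decide +kernel

theorem rB_ok : (Nat.beq rB.length 10 && decide rB.Nodup &&
    rB.all fun r => isInv r && !tvM.contains r && (List.range 256).all fun v =>
      !(ap r v == v) || lnV.contains v) = true := by decide +kernel

theorem rAll_ok : (decide rAll.Nodup && rAll.all fun r =>
    (rAll.all fun s => rAll.contains (mm r s) && mm r s == mm s r) &&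
    (List.range 256).all fun v => lnV.contains (v ^^^ ap r v) &&
      (!lnV.contains v || ap r v == v)) = true := by decide +kernel

theorem star_ok : (Nat.beq rStar.length 4 && (rStar.all fun r => rB.contains r &&
    rStar.all fun s => r == s || rB.contains (mm r s)) &&
    rAll.all fun r => rStar.sublists.any fun l => r == l.foldr mm mI) = true := by decide +kernel

theorem norm_ok : ((wB ++ wLn).all fun w => (w.all fun i => Nat.blt i 45) &&
    (lnV.all fun s => lnV.contains (ap (ev w) s)) &&
    rAll.all fun r => rAll.any fun r' => mm (ev w) r == mm r' (ev w)) = true := by decide +kernel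

theorem wB_ok : ((List.range 10).all fun k =>
    mm (ev (wB.getD k [])) (rB.getD 0 []) == mm (rB.getD k []) (ev (wB.getD k []))) = true := by
  decide +kernel

theorem wLn_ok : (Nat.beq wB.length 10 && Nat.beq wLn.length 5 && (List.range 5).all fun k =>
    mm (ev (wLn.getD k [])) (tvA (lnP.getD 0 0)) == mm (tvA (lnP.getD k 0)) (ev (wLn.getD k []))) =
      true := by decide +kernel

theorem wPt_ok : ((List.range 45).all fun i => ((wPt.getD i []).all fun k => Nat.blt k 45) &&
    mm (ev (wPt.getD i [])) (tvA 0) == mm (tvA i) (ev (wPt.getD i []))) = true := by decide +kernel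

theorem syl_ok : (Nat.beq sylT.length 64 && decide sylT.Nodup && sylT.contains mI &&
    (rAll.all fun r => sylT.contains r) && Nat.beq sylW.length 64 &&
    (List.range 64).all fun k => ((sylW.getD k []).all fun i => Nat.blt i 45) &&
      ev (sylW.getD k []) == sylT.getD k [] &&
      sylT.all fun s => sylT.contains (mm (sylT.getD k []) s)) = true := by decide +kernel

theorem inv_ok : (sylT.all fun s => !isInv s || tvM.contains s || rB.contains s ||
    wInv.any fun p => p.1 == s && (p.2.all fun i => Nat.blt i 45) &&
      rB.any fun r => mm (ev p.2) s == mm r (ev p.2)) = true := by decide +kernel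

theorem e16_ok : (sylT.all fun s => !isInv s || rAll.contains s ||
    Nat.blt (sylT.countP fun t => isInv t && mm s t == mm t s) 15) = true := by decide +kernel

theorem comm_ok : (sylT.all fun u => sylT.any fun a => sylT.any fun b =>
    !(mm a b == mm b a) && !(mm a b == mm u (mm b a))) = true := by decide +kernel

theorem span_ok : ((List.range 8).all fun j => (spanW.getD j []).foldr (· ^^^ ·) 0 == 2 ^ j &&
    (spanW.getD j []).all fun s => plV.any fun p => p.contains s) = true := by decide +kernel

end H82.U6Loc
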