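import Cfsg.Agent.H82.U6Loc.Pre

/-!
Elementary facts about the transvections and orbits of `J`.
-/

set_option autoImplicit false
set_option maxRecDepth 100000
set_option linter.unusedSectionVars false
set_option linter.style.haveILetI false

namespace H82.U6Loc.Local

open Subgroup

variable {G : Type*} [Group G] [Finite G] {z : G} {J : Subgroup G} (D : Local z J)
include D

theorem pp_nodup (i : ℕ) : (ppA i).Nodup := List.nodup_range.filter _

theorem pp_lt (i : ℕ) {v : ℕ} (h : v ∈ ppA i) : v < 256 :=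
  List.mem_range.1 (List.mem_filter.1 h).1

theorem pp_iff {i v : ℕ} (hv : v < 256) : v ∈ ppA i ↔ ∀ s ∈ plA i, bv v s = false := by
  simp [ppA, List.mem_filter, hv]

theorem tv_facts {i : ℕ} (hi : i < 45) :
    mm (tvA i) (tvA i) = mI ∧ tvA i ≠ mI ∧ tvA i ∈ tvM ∧
    ∀ v < 256, v ^^^ ap (tvA i) v ∈ plA i ∧ (ap (tvA i) v = v ↔ v ∈ ppA i) := by
  have h := (List.all_eq_true.1 tv_ok) i (List.mem_range.2 hi)
  simp only [Bool.and_eq_true, beq_iff_eq, Bool.not_eq_true', beq_eq_false_iff_ne, List.all_eq_true,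
    List.mem_range, List.contains_iff_mem] at h
  refine ⟨h.1.1, h.1.2, ?_, fun v hv => ⟨(h.2 v hv).1, ?_⟩⟩
  · rw [tvA, List.getD_eq_getElem (hn := tv_len.symm ▸ hi)]; exact List.getElem_mem _
  · have h' := (h.2 v hv).2
    rw [Bool.eq_iff_iff, beq_iff_eq, List.contains_iff_mem] at h'
    exact h'

theorem tv_inj {i j : ℕ} (hi : i < 45) (hj : j < 45) (h : tvA i = tvA j) : i = j := by
  rw [tvA, tvA, List.getD_eq_getElem (hn := tv_len.symm ▸ hi),
    List.getD_eq_getElem (hn := tv_len.symm ▸ hj)] at h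
  exact (tv_nodup.getElem_inj_iff).1 h

theorem pl_facts {i : ℕ} (hi : i < 45) : (plA i).length = 4 ∧ (plA i).Nodup ∧ 0 ∈ plA i ∧
    ∀ s ∈ plA i, s < 256 ∧ qv s = false ∧ s ∈ ppA i := by
  have h := (List.all_eq_true.1 pl_ok) i (List.mem_range.2 hi)
  simp only [Bool.and_eq_true, decide_eq_true_eq, List.all_eq_true, List.contains_iff_mem,
    Bool.not_eq_true'] at h
  exact ⟨Nat.eq_of_beq_eq_true h.1.1.1, h.1.1.2, h.1.2,
    fun s hs => ⟨Nat.blt_eq.mp (h.2 s hs).1.1.1, (h.2 s hs).1.1.2, (h.2 s hs).1.2⟩⟩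

theorem pp_perp {i : ℕ} (hi : i < 45) : (ppA i).length = 64 ∧
    ∀ v < 256, (∀ u ∈ ppA i, bv v u = false) → v ∈ plA i := by
  have h := (List.all_eq_true.1 pp_ok) i (List.mem_range.2 hi)
  simp only [Bool.and_eq_true, List.all_eq_true, List.mem_range, Bool.or_eq_true, List.any_eq_true,
    List.contains_iff_mem] at h
  refine ⟨Nat.eq_of_beq_eq_true h.1, fun v hv hu => ?_⟩
  rcases h.2 v hv with h' | ⟨u, hu', hb⟩
  · exact h'
  · rw [hu u hu'] at hb; exact absurd hb (by decide)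

/-- The stabiliser in `J` of an element over a transvection. -/
theorem centJ_tv {x : G} (hx : x ∈ centralizer ({z} : Set G)) {i : ℕ} (hi : i < 45)
    (he : D.act x = tvA i) : ((J ⊓ centralizer ({x} : Set G) : Subgroup G) : Set G) ⊆ D.fib (ppA i) := by
  rintro a ⟨ha, hc⟩
  refine ⟨ha, ((D.tv_facts hi).2.2.2 _ (D.vec_lt a ha)).2.1 ?_⟩
  rw [← he, ← D.act_conj _ hx _ ha, ← mem_centralizer_singleton_iff.1 hc, mul_inv_cancel_right]

theorem card_centJ_tv {x : G} (hx : x ∈ centralizer ({z} : Set G)) {i : ℕ} (hi : i < 45)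
    (he : D.act x = tvA i) : Nat.card ↥(J ⊓ centralizer ({x} : Set G)) ≤ 128 := by
  have h := Set.ncard_le_ncard (D.centJ_tv hx hi he) (Set.toFinite _)
  rw [D.ncard_fib (D.pp_nodup i) (fun v => D.pp_lt i), (D.pp_perp hi).1, ← Nat.card_coe_set_eq] at h
  exact h

theorem four_dvd_orbit {x : G} (hx : x ∈ centralizer ({z} : Set G)) {i : ℕ} (hi : i < 45)
    (he : D.act x = tvA i) : 4 ∣ ((fun m => m * x * m⁻¹) '' (J : Set G)).ncard := by
  have h := H33.FiLocal.card_eq_orbit_mul (M := J) x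
  rw [D.card_J] at h
  obtain ⟨j, hj, hjk⟩ := (Nat.dvd_prime_pow Nat.prime_two).1
    (Dvd.intro_left _ h.symm : Nat.card ↥(J ⊓ centralizer ({x} : Set G)) ∣ 2 ^ 9)
  have hle := D.card_centJ_tv hx hi he
  rw [hjk] at h hle
  have hj7 : j ≤ 7 := by
    by_contra hlt
    have := Nat.pow_le_pow_right (show 0 < 2 by norm_num) (Nat.lt_of_not_le hlt)
    omega
  refine ⟨2 ^ (7 - j), Nat.eq_of_mul_eq_mul_right (Nat.two_pow_pos j) ?_⟩
  rw [← h, mul_assoc, ← pow_add, Nat.sub_add_cancel hj7]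
  norm_num

/-- A set invariant under `J` has cardinality divisible by a common divisor of its orbit sizes. -/
theorem dvd_of_orbits {k : ℕ} : ∀ (S : Set G), (∀ s ∈ S, ∀ m ∈ J, m * s * m⁻¹ ∈ S) →
    (∀ s ∈ S, k ∣ ((fun m => m * s * m⁻¹) '' (J : Set G)).ncard) → k ∣ S.ncard := by
  intro S
  induction hn : S.ncard using Nat.strong_induction_on generalizing S with
  | _ n ih =>
    intro hinv hk
    subst hn
    rcases S.eq_empty_or_nonempty with rfl | ⟨s, hs⟩
    · simp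
    set O := (fun m => m * s * m⁻¹) '' (J : Set G) with hO
    have hOS : O ⊆ S := by rintro _ ⟨m, hm, rfl⟩; exact hinv s hs m hm
    have hsO : s ∈ O := ⟨1, J.one_mem, by simp⟩
    have hcard := Set.ncard_sdiff_add_ncard_of_subset hOS (Set.toFinite _)
    have hlt : (S \ O).ncard < S.ncard := by
      have : 0 < O.ncard := (Set.ncard_pos (Set.toFinite _)).2 ⟨s, hsO⟩
      omega
    rw [← hcard]
    refine dvd_add (ih _ hlt (S \ O) rfl ?_ fun t ht => hk t ht.1) (hk s hs)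
    rintro t ⟨htS, htO⟩ m hm
    refine ⟨hinv t htS m hm, ?_⟩
    rintro ⟨m', hm', he⟩
    refine htO ⟨m⁻¹ * m', J.mul_mem (J.inv_mem hm) hm', ?_⟩
    have he' : m' * s * m'⁻¹ = m * t * m⁻¹ := he
    calc m⁻¹ * m' * s * (m⁻¹ * m')⁻¹ = m⁻¹ * (m' * s * m'⁻¹) * m := by group
      _ = t := by rw [he']; group

end H82.U6Loc.Local
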