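import Cfsg.Agent.H82.U6Loc.Fuse
import Cfsg.Agent.H82.U6Loc.Point

/-!
No conjugate of `z` outside `J` lies over the second class of involutions.
-/

set_option autoImplicit false
set_option linter.unusedSectionVars false
set_option linter.style.haveILetI false

namespace H82.U6Loc.Local

open Subgroup

theorem sizes : ∀ a < 9, ∀ b ∈ [1, 2],
    1 + 20 * a + 160 * b ∣ ∏ i : Fin 9, (2 ^ 9 - 2 ^ (i : ℕ)) → b = 2 ∧ a ≤ 6 := by decide +kernel

theorem part_lists : rAll.toFinset = insert mI (rB.toFinset ∪ (lnP.map tvA).toFinset) ∧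
    mI ∉ rB.toFinset ∪ (lnP.map tvA).toFinset ∧
    Disjoint rB.toFinset (lnP.map tvA).toFinset ∧ rB.toFinset.card = 10 ∧
    (lnP.map tvA).toFinset.card = 5 := by decide +kernel

theorem mem_cent_conj {G : Type*} [Group G] (n g a : G) :
    n * g * n⁻¹ ∈ centralizer ({n * a * n⁻¹} : Set G) ↔ g ∈ centralizer ({a} : Set G) := by
  rw [mem_centralizer_singleton_iff, mem_centralizer_singleton_iff,
    show n * g * n⁻¹ * (n * a * n⁻¹) = n * (g * a) * n⁻¹ by group,
    show n * a * n⁻¹ * (n * g * n⁻¹) = n * (a * g) * n⁻¹ by group, mul_left_inj, mul_right_inj]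

variable {G : Type*} [Group G] [Finite G] {z : G} {J : Subgroup G} (D : Local z J)
include D

/-- The conjugates of `z` in the group over the line with a given matrix. -/
def part (r : List ℕ) : Set G := {v | v ∈ D.conjEc ∧ D.act v = r}

theorem ncard_part_conj {n : G} (hn : n ∈ centralizer ({z} : Set G))
    (hN : n ∈ normalizer (D.Ec : Set G)) {b : G} (hb : b ∈ centralizer ({z} : Set G)) :
    (D.part (D.act (n * b * n⁻¹))).ncard = (D.part (D.act b)).ncard := by
  have hcl : ∀ m ∈ centralizer ({z} : Set G), m ∈ normalizer (D.Ec : Set G) →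
      ∀ c ∈ centralizer ({z} : Set G), ∀ v ∈ D.part (D.act c),
        m * v * m⁻¹ ∈ D.part (D.act (m * c * m⁻¹)) := by
    rintro m hm hmN c hc v ⟨⟨hvE, hvz⟩, hv⟩
    refine ⟨⟨(mem_normalizer_iff.1 hmN v).1 hvE, hvz.trans (isConj_iff.2 ⟨m, rfl⟩)⟩, ?_⟩
    have hvC := (D.mem_Ec.1 hvE).1.1
    rw [D.act_mul _ (mul_mem hm hvC) _ (inv_mem hm), D.act_mul _ hm _ hvC, hv, ← D.act_mul _ hm _ hc,
      ← D.act_mul _ (mul_mem hm hc) _ (inv_mem hm)]
  refine (Set.ncard_congr (fun v _ => n * v * n⁻¹) (fun v hv => hcl n hn hN b hb v hv)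
    (fun u v _ _ e => mul_left_cancel (mul_right_cancel e)) fun w hw => ?_).symm
  refine ⟨n⁻¹ * w * n⁻¹⁻¹, ?_, by group⟩
  have := hcl n⁻¹ (inv_mem hn) (inv_mem hN) _ (mul_mem (mul_mem hn hb) (inv_mem hn)) w hw
  rwa [show n⁻¹ * (n * b * n⁻¹) * n⁻¹⁻¹ = b by group] at this

theorem part_inv {r : List ℕ} {v : G} (hv : v ∈ D.part r) {m : G} (hm : m ∈ J) :
    m * v * m⁻¹ ∈ D.part r := by
  obtain ⟨⟨hvE, hvz⟩, hvr⟩ := hv
  refine ⟨⟨(mem_normalizer_iff.1 (D.J_norm_Ec hm) v).1 hvE, hvz.trans (isConj_iff.2 ⟨m, rfl⟩)⟩, ?_⟩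
  have hvC := (D.mem_Ec.1 hvE).1.1
  have hmC := D.J_le hm
  have hmI := (D.act_one_iff m hmC).2 hm
  have hmI' := (D.act_one_iff m⁻¹ (inv_mem hmC)).2 (inv_mem hm)
  rw [← hvr, D.act_mul _ (mul_mem hmC hvC) _ (inv_mem hmC), D.act_mul _ hmC _ hvC, hmI, hmI',
    ← D.act_one, ← D.act_mul _ (one_mem _) _ hvC, one_mul, ← D.act_mul _ hvC _ (one_mem _), mul_one]

theorem orbit_B {v : G} {r : List ℕ} (hv : v ∈ D.part r) (hr : r ∈ rB) :
    ((fun m => m * v * m⁻¹) '' (J : Set G)).ncard = 16 := by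
  obtain ⟨⟨hvE, hvz⟩, hvr⟩ := hv
  have hvC := (D.mem_Ec.1 hvE).1.1
  obtain ⟨hcW, hfix⟩ := D.cent_B hvC (D.isConj_C hvz).1 (hvr ▸ hr)
  have hK : J ⊓ centralizer ({v} : Set G) = D.W := by
    ext a
    refine ⟨fun ha => hfix a ha.1 (mem_centralizer_singleton_iff.1 ha.2).symm, fun ha => ⟨ha.1, ?_⟩⟩
    exact mem_centralizer_singleton_iff.2 (hcW a ha).symm
  have h := H33.FiLocal.card_eq_orbit_mul (M := J) v
  rw [D.card_J, hK, D.card_W] at h
  omega

theorem part_sub_coset {v : G} {r : List ℕ} (hv : v ∈ D.part r) :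
    D.part r ⊆ (fun a => v * a) '' (D.W : Set G) := by
  rintro w ⟨⟨hwE, -⟩, hwr⟩
  exact ⟨v⁻¹ * w, D.Ec_inf_J (mul_mem (inv_mem hv.1.1) hwE)
    ((D.act_eq_iff (D.mem_Ec.1 hv.1.1).1.1 (D.mem_Ec.1 hwE).1.1).1 (hv.2.trans hwr.symm)),
    mul_inv_cancel_left _ _⟩

theorem part_le {r : List ℕ} : (D.part r).ncard ≤ 32 := by
  rcases (D.part r).eq_empty_or_nonempty with h | ⟨v, hv⟩
  · rw [h, Set.ncard_empty]; norm_num
  · refine (Set.ncard_le_ncard (D.part_sub_coset hv) (Set.toFinite _)).trans ?_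
    rw [Set.ncard_image_of_injective _ (mul_right_injective v), ← Nat.card_coe_set_eq]
    exact D.card_W.le

theorem part_one : D.part mI = {z} := by
  ext v
  refine ⟨fun ⟨⟨hE, hz⟩, h⟩ => D.weak' hz ((D.act_one_iff v (D.mem_Ec.1 hE).1.1).1 h), ?_⟩
  rintro rfl
  exact ⟨⟨D.W_le_Ec D.z_mem_W, IsConj.refl v⟩, (D.act_one_iff _ D.z_mem_C).2 D.z_mem⟩

theorem ncard_fiberwise (S : Set G) (F : Finset (List ℕ)) :
    {v | v ∈ S ∧ D.act v ∈ F}.ncard = ∑ r ∈ F, {v | v ∈ S ∧ D.act v = r}.ncard := by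
  classical
  haveI := Fintype.ofFinite G
  simp only [Set.ncard_eq_toFinset_card', Set.toFinset_setOf]
  rw [Finset.card_eq_sum_card_fiberwise (f := D.act) (t := F) (fun v hv => (Finset.mem_filter.1 hv).2.2)]
  refine Finset.sum_congr rfl fun r hr => ?_
  rw [Finset.filter_filter]
  refine congrArg Finset.card (Finset.filter_congr fun v _ => ?_)
  exact ⟨fun h => ⟨h.1.1, h.2⟩, fun h => ⟨⟨h.1, h.2.symm ▸ hr⟩, h.2⟩⟩

/-- No conjugate of `z` in the centraliser has matrix in `rB`. -/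
theorem no_rB {x : G} (hx : x ∈ centralizer ({z} : Set G)) (hxz : IsConj z x) : D.act x ∉ rB := by
  classical
  intro hr
  have h2 := (D.isConj_C hxz).1
  have hxE : x ∈ D.Ec := D.mem_Ec.2 ⟨⟨hx, (D.rB_facts hr).1⟩, (D.cent_B hx h2 hr).1⟩
  have hxP : x ∈ D.part (D.act x) := ⟨⟨hxE, hxz⟩, rfl⟩
  -- the ten parts over `rB`
  set m := (D.part (D.act x)).ncard with hm
  have hB : ∀ r ∈ rB.toFinset, (D.part r).ncard = m := fun r hr' => by
    obtain ⟨n, hn, hnN, he⟩ := D.move_B hx hr (List.mem_toFinset.1 hr')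
    rw [← he, D.ncard_part_conj hn hnN hx]
  obtain ⟨b, hb⟩ : 16 ∣ m := D.dvd_of_orbits _ (fun s hs k hk => D.part_inv hs hk)
    fun s hs => (D.orbit_B hs hr).symm ▸ dvd_refl 16
  have hmpos : 0 < m := (Set.ncard_pos (Set.toFinite _)).2 ⟨x, hxP⟩
  have hm32 : m ≤ 32 := D.part_le
  -- the five parts over the transvections
  have hlP : ∀ j < 5, lnP.getD j 0 < 45 ∧ lnP.getD j 0 ∈ lnP := fun j hj => by
    have h := lnP_ok
    simp only [Bool.and_eq_true, List.all_eq_true] at h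
    have hl : j < lnP.length := Nat.eq_of_beq_eq_true h.1 ▸ hj
    rw [List.getD_eq_getElem (hn := hl)]
    exact ⟨Nat.blt_eq.mp (h.2 _ (List.getElem_mem hl)).1, List.getElem_mem hl⟩
  set k := (D.part (tvA (lnP.getD 0 0))).ncard with hk
  have hT : ∀ r ∈ (lnP.map tvA).toFinset, (D.part r).ncard = k := fun r hr' => by
    obtain ⟨i, hi, rfl⟩ := List.mem_map.1 (List.mem_toFinset.1 hr')
    obtain ⟨j, hj, rfl⟩ := List.getElem_of_mem hi
    have hj5 : j < 5 := by
      have : lnP.length = 5 := by decide +kernel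
      omega
    have h := wLn_ok
    simp only [Bool.and_eq_true, List.all_eq_true, List.mem_range, beq_iff_eq] at h
    have hw := h.2 j hj5
    rw [List.getD_eq_getElem (l := lnP) (n := j) (hn := hj)] at hw
    have hwl := Nat.eq_of_beq_eq_true h.1.2
    obtain ⟨n, hn, hne, hnN⟩ := D.word_mover (w := wLn.getD j []) (List.mem_append_right _ (by
      rw [List.getD_eq_getElem (hn := hwl ▸ hj5)]; exact List.getElem_mem _))
    obtain ⟨a, ha, hae⟩ := D.act_surj _ (hlP 0 (by norm_num)).1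
    obtain ⟨c, hc, hce⟩ := D.act_surj lnP[j] (by
      have := (hlP j hj5).1
      rwa [List.getD_eq_getElem (hn := hj)] at this)
    rw [hk, ← hae, ← D.ncard_part_conj hn hnN ha, D.act_conj_eq hn ha hc (by rw [hne, hae, hce, hw]; rfl),
      hce]
    rfl
  have hk4 : 4 ∣ k := D.dvd_of_orbits _ (fun s hs j hj => D.part_inv hs hj)
    fun s hs => D.four_dvd_orbit (D.mem_Ec.1 hs.1.1).1.1 (hlP 0 (by norm_num)).1 hs.2
  obtain ⟨a, ha⟩ := hk4
  have hk32 : k ≤ 32 := D.part_le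
  -- the count
  obtain ⟨hsplit, hnot, hdis, h10, h5⟩ := part_lists
  have htot : D.conjEc.ncard = 1 + 10 * m + 5 * k := by
    have h := D.ncard_fiberwise D.conjEc rAll.toFinset
    have hall : {v | v ∈ D.conjEc ∧ D.act v ∈ rAll.toFinset} = D.conjEc := Set.ext fun v =>
      ⟨fun h => h.1, fun h => ⟨h, List.mem_toFinset.2 (D.mem_Ec.1 h.1).1.2⟩⟩
    change _ = ∑ r ∈ rAll.toFinset, (D.part r).ncard at h
    rw [hall, hsplit, Finset.sum_insert hnot, Finset.sum_union hdis, Finset.sum_congr rfl hB,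
      Finset.sum_congr rfl hT, D.part_one, Set.ncard_singleton, Finset.sum_const, Finset.sum_const,
      h10, h5, smul_eq_mul, smul_eq_mul] at h
    omega
  have hdvd := D.card_conjEc hx h2 hr
  rw [htot, show 1 + 10 * m + 5 * k = 1 + 20 * a + 160 * b by omega] at hdvd
  obtain ⟨rfl, ha6⟩ := sizes a (by omega) b (by
    simp only [List.mem_cons, List.not_mem_nil, or_false]; omega) hdvd
  -- full cosets: pairing gives a contradiction
  obtain ⟨n, hnN, hnx⟩ := D.burnside hx h2 hr (show x ∈ D.conjEc from ⟨hxE, hxz⟩)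
  set z' := n⁻¹ * z * n with hz'
  have hz'E : z' ∈ D.conjEc := by
    refine ⟨?_, isConj_iff.2 ⟨n⁻¹, by rw [hz', inv_inv]⟩⟩
    have := (mem_normalizer_iff.1 (inv_mem hnN) z).1 (D.W_le_Ec D.z_mem_W)
    rwa [inv_inv] at this
  set M : Subgroup G := normalizer (D.Ec : Set G) ⊓ centralizer ({z} : Set G) with hM
  have hO : ((fun g => g * z' * g⁻¹) '' (M : Set G)).ncard =
      ((fun g => g * x * g⁻¹) '' (M : Set G)).ncard := by
    have h1 := H33.FiLocal.card_eq_orbit_mul (M := M) z'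
    have h2 := H33.FiLocal.card_eq_orbit_mul (M := M) x
    have hx' : n * z' * n⁻¹ = z := by rw [hz']; group
    have hmap : (M ⊓ centralizer ({z'} : Set G)).map (MulAut.conj n).toMonoidHom =
        M ⊓ centralizer ({x} : Set G) := by
      ext v
      constructor
      · rintro ⟨g, hg, rfl⟩
        obtain ⟨hgM, hgz'⟩ := Subgroup.mem_inf.1 hg
        obtain ⟨hgN, hgz⟩ := Subgroup.mem_inf.1 hgM
        refine Subgroup.mem_inf.2 ⟨Subgroup.mem_inf.2 ⟨mul_mem (mul_mem hnN hgN) (inv_mem hnN), ?_⟩, ?_⟩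
        · show n * g * n⁻¹ ∈ centralizer ({z} : Set G)
          have := (mem_cent_conj n g z').2 hgz'
          rwa [hx'] at this
        · show n * g * n⁻¹ ∈ centralizer ({x} : Set G)
          have := (mem_cent_conj n g z).2 hgz
          rwa [hnx] at this
      · intro hv
        obtain ⟨hvM, hvx⟩ := Subgroup.mem_inf.1 hv
        obtain ⟨hvN, hvz⟩ := Subgroup.mem_inf.1 hvM
        have e : n * (n⁻¹ * v * n) * n⁻¹ = v := by group
        refine ⟨n⁻¹ * v * n, Subgroup.mem_inf.2 ⟨Subgroup.mem_inf.2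
          ⟨mul_mem (mul_mem (inv_mem hnN) hvN) hnN, ?_⟩, ?_⟩, e⟩
        · refine (mem_cent_conj n _ z).1 ?_
          rw [e, hnx]; exact hvx
        · refine (mem_cent_conj n _ z').1 ?_
          rw [e, hx']; exact hvz
    have heq : Nat.card ↥(M ⊓ centralizer ({z'} : Set G)) = Nat.card ↥(M ⊓ centralizer ({x} : Set G)) := by
      rw [← hmap]
      exact Nat.card_congr (Subgroup.equivMapOfInjective _ _ (MulAut.conj n).injective).toEquiv
    rw [heq] at h1
    exact Nat.eq_of_mul_eq_mul_right Nat.card_pos (h1.symm.trans h2)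
  have hbig : 160 ≤ ((fun g => g * x * g⁻¹) '' (M : Set G)).ncard := by
    set O := (fun g => g * x * g⁻¹) '' (M : Set G)
    refine le_trans ?_ (Set.ncard_le_ncard (show {v | v ∈ O ∧ D.act v ∈ rB.toFinset} ⊆ O from
      fun v hv => hv.1) (Set.toFinite _))
    rw [D.ncard_fiberwise O rB.toFinset]
    refine le_trans (le_of_eq ?_) (Finset.card_nsmul_le_sum _ _ 16 fun r hr' => ?_)
    · rw [h10]; rfl
    obtain ⟨c, hc, hcN, hce⟩ := D.move_B hx hr (List.mem_toFinset.1 hr')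
    have hp : c * x * c⁻¹ ∈ D.part r :=
      ⟨⟨(mem_normalizer_iff.1 hcN x).1 hxE, hxz.trans (isConj_iff.2 ⟨c, rfl⟩)⟩, hce⟩
    rw [← D.orbit_B hp (List.mem_toFinset.1 hr')]
    refine Set.ncard_le_ncard ?_ (Set.toFinite _)
    rintro _ ⟨j, hj, rfl⟩
    exact ⟨⟨j * c, ⟨mul_mem (D.J_norm_Ec hj) hcN, mul_mem (D.J_le hj) hc⟩, by group⟩,
      (D.part_inv hp hj).2⟩
  obtain ⟨hz'C, hz'r⟩ := (D.mem_Ec.1 hz'E.1).1
  rcases List.mem_cons.1 hz'r with hI | hI
  · have : z' = z := D.weak' hz'E.2 ((D.act_one_iff _ hz'C).1 hI)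
    have hx1 : x = z := by
      have : n * z * n⁻¹ = n * z' * n⁻¹ := by rw [this]
      rw [hnx, hz'] at this
      rw [this]; group
    rw [hx1, (D.act_one_iff _ D.z_mem_C).2 D.z_mem] at hr
    exact (D.rB_facts hr).2.1 rfl
  rcases List.mem_append.1 hI with hI | hI
  · -- `z W'` consists of conjugates
    have hfull : ∀ w ∈ D.W, z' * w ∈ D.conjEc := fun w hw => by
      have hp : z' ∈ D.part (D.act z') := ⟨hz'E, rfl⟩
      have heq := Set.eq_of_subset_of_ncard_le (D.part_sub_coset hp) (by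
        rw [Set.ncard_image_of_injective _ (mul_right_injective z'), ← Nat.card_coe_set_eq,
          hB _ (List.mem_toFinset.2 hI), hb]
        exact D.card_W.le.trans (by norm_num)) (Set.toFinite _)
      exact ((heq ▸ ⟨w, hw, rfl⟩ : z' * w ∈ D.part (D.act z'))).1
    have hinj : Function.Injective (fun w : D.W => (⟨D.act (n * w * n⁻¹),
        (D.mem_Ec.1 ((mem_normalizer_iff.1 hnN w).1 (D.W_le_Ec w.2))).1.2⟩ : {r // r ∈ rAll})) := by
      intro u w e
      have e' : D.act (n * u * n⁻¹) = D.act (n * w * n⁻¹) := congrArg Subtype.val e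
      have huC := (D.mem_Ec.1 ((mem_normalizer_iff.1 hnN (u : G)).1 (D.W_le_Ec u.2))).1.1
      have hwC := (D.mem_Ec.1 ((mem_normalizer_iff.1 hnN (w : G)).1 (D.W_le_Ec w.2))).1.1
      have hJ := (D.act_eq_iff huC hwC).1 e'
      rw [show (n * u * n⁻¹)⁻¹ * (n * w * n⁻¹) = n * ((u : G)⁻¹ * w) * n⁻¹ by group] at hJ
      have hw' := D.W.mul_mem (D.W.inv_mem u.2) w.2
      have hconj : IsConj z (z * (n * ((u : G)⁻¹ * w) * n⁻¹)) := by
        refine (hfull _ hw').2.trans (isConj_iff.2 ⟨n, ?_⟩)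
        rw [hz']; group
      have := mul_eq_left.1 (D.weak' hconj (mul_mem D.z_mem hJ))
      exact Subtype.ext (inv_mul_eq_one.1 (conj_eq_one_iff.1 this))
    have := Nat.card_le_card_of_injective _ hinj
    rw [D.card_W, Nat.card_congr (Equiv.subtypeEquivRight fun s => (List.mem_toFinset (l := rAll)).symm),
      Nat.card_eq_fintype_card, Fintype.card_coe, List.toFinset_card_of_nodup D.rAll_facts.1] at this
    have h16 : rAll.length = 16 := by decide +kernel
    omega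
  · -- the suborbit is too small
    obtain ⟨i, hi, hie⟩ := List.mem_map.1 hI
    have hi45 : i < 45 := by
      have h := lnP_ok
      simp only [Bool.and_eq_true, List.all_eq_true] at h
      exact Nat.blt_eq.mp (h.2 i hi).1
    have hsub : ((fun g => g * z' * g⁻¹) '' (M : Set G)) ⊆
        {v | v ∈ D.conjEc ∧ D.act v ∈ (lnP.map tvA).toFinset} := by
      rintro _ ⟨g, ⟨hgN, hgC⟩, rfl⟩
      obtain ⟨j, hj, hje⟩ := D.conj_tv hgC hz'C hi45 hie.symm
      have hE := (mem_normalizer_iff.1 hgN z').1 hz'E.1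
      refine ⟨⟨hE, hz'E.2.trans (isConj_iff.2 ⟨g, rfl⟩)⟩, List.mem_toFinset.2 ?_⟩
      have hmem := (D.mem_Ec.1 hE).1.2
      rcases List.mem_cons.1 hmem with h | h
      · exact absurd (hje.symm.trans h) (D.tv_facts hj).2.1
      rcases List.mem_append.1 h with h | h
      · exact absurd (hje ▸ (D.tv_facts hj).2.2.1) (D.rB_facts h).2.2.1
      · exact h
    have h := Set.ncard_le_ncard hsub (Set.toFinite _)
    rw [D.ncard_fiberwise D.conjEc] at h
    change _ ≤ ∑ r ∈ (lnP.map tvA).toFinset, (D.part r).ncard at h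
    rw [Finset.sum_congr rfl hT, Finset.sum_const, h5, smul_eq_mul, hO] at h
    omega

/-- Every conjugate of `z` in the centraliser, outside `J`, lies over a transvection. -/
theorem act_conjugate {x : G} (hx : x ∈ centralizer ({z} : Set G)) (hxz : IsConj z x) (hne : x ≠ z) :
    ∃ i < 45, D.act x = tvA i := by
  refine (D.inv_class hx (D.isConj_C hxz).1 fun h => hne (D.weak' hxz h)).resolve_right ?_
  rintro ⟨c, hc, hr⟩
  exact D.no_rB (mul_mem (mul_mem hc hx) (inv_mem hc)) (hxz.trans (isConj_iff.2 ⟨c, rfl⟩)) hr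

end H82.U6Loc.Local
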