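import Cfsg.Agent.H82.U6Loc.Count

/-!
Over each transvection there are exactly four conjugates of `z` in the centraliser: one orbit of `J`.
-/

set_option autoImplicit false
set_option maxRecDepth 100000
set_option linter.unusedSectionVars false
set_option linter.style.haveILetI false

namespace H82.U6Loc.Local

open Subgroup

theorem pl_xor : ((List.range 45).all fun i => (plA i).all fun s => (plA i).all fun t =>
    (plA i).contains (s ^^^ t)) = true := by decide +kernel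

variable {G : Type*} [Group G] [Finite G] {z : G} {J : Subgroup G} (D : Local z J)
include D

/-- A conjugate of `z` over the transvection `i`. -/
def Mem (i : ℕ) (v : G) : Prop :=
  v ∈ centralizer ({z} : Set G) ∧ IsConj z v ∧ D.act v = tvA i

theorem Mem.ne {i : ℕ} (hi : i < 45) {v : G} (h : D.Mem i v) : v ≠ z := fun e => by
  have h' := h.2.2
  rw [e, (D.act_one_iff _ D.z_mem_C).2 D.z_mem] at h'
  exact (D.tv_facts hi).2.1 h'.symm

theorem mem_conj_J {i : ℕ} {v m : G} (h : D.Mem i v) (hm : m ∈ J) : D.Mem i (m * v * m⁻¹) := by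
  obtain ⟨hv, hz, he⟩ := h
  have hmC := D.J_le hm
  refine ⟨mul_mem (mul_mem hmC hv) (inv_mem hmC), hz.trans (isConj_iff.2 ⟨m, rfl⟩), ?_⟩
  rw [← he, D.act_mul _ (mul_mem hmC hv) _ (inv_mem hmC), D.act_mul _ hmC _ hv,
    (D.act_one_iff m hmC).2 hm, (D.act_one_iff m⁻¹ (inv_mem hmC)).2 (inv_mem hm), ← D.act_one,
    ← D.act_mul _ (one_mem _) _ hv, one_mul, ← D.act_mul _ hv _ (one_mem _), mul_one]

theorem fib_pl_facts {i : ℕ} (hi : i < 45) {a b : G} (ha : a ∈ D.fib (plA i))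
    (hb : b ∈ D.fib (plA i)) :
    a * b ∈ D.fib (plA i) ∧ a⁻¹ ∈ D.fib (plA i) ∧ a * a = 1 ∧ a * b = b * a ∧ a ∈ D.fib (ppA i) := by
  have h := pl_xor
  simp only [List.all_eq_true, List.mem_range, List.contains_iff_mem] at h
  obtain ⟨-, -, -, hpl⟩ := D.pl_facts hi
  refine ⟨⟨J.mul_mem ha.1 hb.1, ?_⟩, ⟨J.inv_mem ha.1, by rw [D.vec_inv ha.1]; exact ha.2⟩, ?_, ?_,
    ⟨ha.1, (hpl _ ha.2).2.2⟩⟩
  · rw [D.vec_mul _ ha.1 _ hb.1]; exact h i hi _ ha.2 _ hb.2
  · rw [D.sq a ha.1, (hpl _ ha.2).2.1]; rfl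
  · exact (D.comm_iff ha.1 hb.1).2 ((D.pp_iff (D.vec_lt a ha.1)).1 (hpl _ ha.2).2.2 _ hb.2)

theorem z_mem_pl {i : ℕ} (hi : i < 45) : z ∈ D.fib (plA i) :=
  ⟨D.z_mem, by rw [D.vec_z]; exact (D.pl_facts hi).2.2.1⟩

theorem ncard_pl {i : ℕ} (hi : i < 45) : (D.fib (plA i)).ncard = 8 := by
  rw [D.ncard_fib (D.pl_facts hi).2.1 fun v hv => ((D.pl_facts hi).2.2.2 v hv).1, (D.pl_facts hi).1]

theorem orbit_sub {i : ℕ} (hi : i < 45) {x : G} (h : D.Mem i x) :
    ((fun m => m * x * m⁻¹) '' (J : Set G)) ⊆ (fun a => x * a) '' D.fib (plA i) := by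
  obtain ⟨hx, -, he⟩ := h
  rintro _ ⟨m, hm, rfl⟩
  refine ⟨x⁻¹ * (m * x * m⁻¹), ?_, by group⟩
  set a := x⁻¹ * m⁻¹ * x⁻¹⁻¹ with ha'
  have ha : a ∈ J := D.conj_mem (inv_mem hx) (inv_mem hm)
  have hc := D.conj_mem hx ha
  rw [show x⁻¹ * (m * x * m⁻¹) = a⁻¹ * (x * a * x⁻¹) by rw [ha']; group]
  refine ⟨mul_mem (inv_mem ha) hc, ?_⟩
  rw [D.vec_mul _ (inv_mem ha) _ hc, D.vec_inv ha, D.act_conj _ hx _ ha, he]
  exact ((D.tv_facts hi).2.2.2 _ (D.vec_lt a ha)).1

/-- A member centralises the whole preimage of the perpendicular of its point. -/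
theorem cent_pp {i : ℕ} (hi : i < 45) {x : G} (h : D.Mem i x) :
    ∀ a ∈ D.fib (ppA i), x * a = a * x := by
  obtain ⟨hx, hxz, he⟩ := id h
  by_contra hc
  push Not at hc
  obtain ⟨a, ha, hne⟩ := hc
  have hK := D.centJ_tv hx hi he
  have h128 : (D.fib (ppA i)).ncard = 128 := by
    rw [D.ncard_fib (D.pp_nodup i) (fun v => D.pp_lt i), (D.pp_perp hi).1]
  have hKlt : Nat.card ↥(J ⊓ centralizer ({x} : Set G)) < 128 := by
    rw [← h128]
    refine lt_of_eq_of_lt (Nat.card_coe_set_eq _) (Set.ncard_lt_ncard ((Set.ssubset_iff_of_subset hK).2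
      ⟨a, ha, fun h' => hne ?_⟩) (Set.toFinite _))
    exact (mem_centralizer_singleton_iff.1 (Subgroup.mem_inf.1 h').2).symm
  have hK64 : Nat.card ↥(J ⊓ centralizer ({x} : Set G)) ≤ 64 := by
    obtain ⟨j, hj, hjk⟩ := (Nat.dvd_prime_pow Nat.prime_two).1
      (D.card_J ▸ Subgroup.card_dvd_of_le (inf_le_left : J ⊓ centralizer ({x} : Set G) ≤ J))
    rw [hjk] at hKlt ⊢
    exact Nat.pow_le_pow_right (show 0 < 2 by norm_num) (n := 2) (i := j) (j := 6)
      (Nat.lt_succ_iff.1 ((Nat.pow_lt_pow_iff_right (show 1 < 2 by norm_num)).1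
        (show 2 ^ j < 2 ^ 7 from hKlt)))
  have horb := H33.FiLocal.card_eq_orbit_mul (M := J) x
  rw [D.card_J] at horb
  have h8 : ((fun a => x * a) '' D.fib (plA i)).ncard = 8 := by
    rw [Set.ncard_image_of_injective _ (mul_right_injective x), D.ncard_pl hi]
  have heq := Set.eq_of_subset_of_ncard_le (D.orbit_sub hi h) (by rw [h8]; nlinarith) (Set.toFinite _)
  obtain ⟨g, hg⟩ := isConj_iff.1 hxz
  have hkey : ∀ w ∈ D.fib (plA i), g⁻¹ * w * g ∈ centralizer ({z} : Set G) ∧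
      (w ≠ 1 → ∃ c < 45, D.act (g⁻¹ * w * g) = tvA c) := by
    intro w hw
    obtain ⟨m, hm, hme⟩ : x * w ∈ (fun m => m * x * m⁻¹) '' (J : Set G) := heq ▸ ⟨w, hw, rfl⟩
    have hwz : IsConj z (x * w) := hxz.trans (isConj_iff.2 ⟨m, hme⟩)
    have hxw : x * w = w * x := by
      have h2 := (D.isConj_C hwz).1
      have hw2 := (D.fib_pl_facts hi hw hw).2.2.1
      have hx2 := (D.isConj_C hxz).1
      calc x * w = (x * w * (x * w)) * (w⁻¹ * x⁻¹) := by group
        _ = w * x := by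
          rw [h2, one_mul, inv_eq_of_mul_eq_one_right hw2, inv_eq_of_mul_eq_one_right hx2]
    have huC : g⁻¹ * w * g ∈ centralizer ({z} : Set G) := mem_centralizer_singleton_iff.2 (by
      calc g⁻¹ * w * g * z = g⁻¹ * (w * (g * z * g⁻¹)) * g := by group
        _ = g⁻¹ * ((g * z * g⁻¹) * w) * g := by rw [hg, hxw]
        _ = z * (g⁻¹ * w * g) := by group)
    refine ⟨huC, fun hw1 => ?_⟩
    have hye : g⁻¹ * (x * w) * g = z * (g⁻¹ * w * g) := by rw [← hg]; group
    obtain ⟨c, hc, hce⟩ := D.act_conjugate (x := g⁻¹ * (x * w) * g)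
      (hye ▸ mul_mem D.z_mem_C huC) (hwz.trans (isConj_iff.2 ⟨g⁻¹, by rw [inv_inv]⟩))
      fun e => hw1 (by
        have e' : g⁻¹ * w * g = 1 := mul_eq_left.1 (hye.symm.trans e)
        calc w = g * (g⁻¹ * w * g) * g⁻¹ := by group
          _ = 1 := by rw [e']; group)
    refine ⟨c, hc, ?_⟩
    rw [← hce, hye, D.act_eq_iff huC (mul_mem D.z_mem_C huC)]
    rw [← D.zc huC, inv_mul_cancel_left]
    exact D.z_mem
  obtain ⟨hlen, hnd, h0, hpl⟩ := D.pl_facts hi
  obtain ⟨s, hs, hs0⟩ : ∃ s ∈ plA i, s ≠ 0 := by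
    by_contra hall
    push Not at hall
    have := List.toFinset_card_of_nodup hnd
    have h1 : (plA i).toFinset ⊆ {0} := fun s hs =>
      Finset.mem_singleton.2 (hall s (List.mem_toFinset.1 hs))
    have := Finset.card_le_card h1
    rw [Finset.card_singleton] at this
    omega
  obtain ⟨w, hwJ, hwv⟩ := D.exists_vec (hpl s hs).1
  have hw : w ∈ D.fib (plA i) := ⟨hwJ, hwv ▸ hs⟩
  have hw1 : w ≠ 1 := fun e => hs0 (by rw [← hwv, e, D.vec_one])
  have hwz : w ≠ z := fun e => hs0 (by rw [← hwv, e, D.vec_z])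
  have hz := D.z_mem_pl hi
  obtain ⟨hzC, h1⟩ := hkey z hz
  obtain ⟨hwC, h2⟩ := hkey w hw
  obtain ⟨-, h3⟩ := hkey (z * w) (D.fib_pl_facts hi hz hw).1
  obtain ⟨p, hp, hpe⟩ := h1 D.z_ne
  obtain ⟨q, hq, hqe⟩ := h2 hw1
  obtain ⟨r, hr, hre⟩ := h3 fun e => hwz (by rw [← inv_eq_of_mul_eq_one_right e, D.z_inv])
  have e3 : D.act (g⁻¹ * (z * w) * g) = mm (tvA p) (tvA q) := by
    rw [← hpe, ← hqe, ← D.act_mul _ hzC _ hwC]
    congr 1
    group
  have hpq : p ≠ q := fun e => by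
    subst e
    rw [(D.tv_facts hp).1, hre] at e3
    exact (D.tv_facts hr).2.1 e3
  have hP := pair_ok ⟨p, hp⟩ ⟨q, hq⟩
  rw [if_neg fun e => hpq (congrArg Fin.val e)] at hP
  obtain ⟨-, hP⟩ := hP
  split_ifs at hP
  · exact hP.2.1 (e3 ▸ hre ▸ (D.tv_facts hr).2.2.1)
  · refine hP.1 ?_
    rw [← hpe, ← hqe, ← D.act_mul _ hzC _ hwC, ← D.act_mul _ hwC _ hzC]
    congr 1
    calc g⁻¹ * z * g * (g⁻¹ * w * g) = g⁻¹ * (z * w) * g := by group
      _ = g⁻¹ * (w * z) * g := by rw [(D.fib_pl_facts hi hz hw).2.2.2.1]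
      _ = g⁻¹ * w * g * (g⁻¹ * z * g) := by group

theorem mem_coset {i : ℕ} (hi : i < 45) {x y : G} (hx : D.Mem i x) (hy : D.Mem i y) :
    x⁻¹ * y ∈ D.fib (plA i) := by
  have hJ := (D.act_eq_iff hx.1 hy.1).1 (hx.2.2.trans hy.2.2.symm)
  refine ⟨hJ, (D.pp_perp hi).2 _ (D.vec_lt _ hJ) fun u hu => ?_⟩
  obtain ⟨a, ha, rfl⟩ := D.exists_vec (D.pp_lt i hu)
  have hc : x * a = a * x := D.cent_pp hi hx a ⟨ha, hu⟩
  have hc' : y * a = a * y := D.cent_pp hi hy a ⟨ha, hu⟩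
  refine (D.comm_iff hJ ha).1 ?_
  calc x⁻¹ * y * a = x⁻¹ * (y * a) := by group
    _ = x⁻¹ * (a * x) * (x⁻¹ * y) := by rw [hc']; group
    _ = a * (x⁻¹ * y) := by rw [← hc]; group

/-- The structure of a fibre. -/
theorem fibre {i : ℕ} (hi : i < 45) {x g : G} (h : D.Mem i x) (hg : g * z * g⁻¹ = x) :
    ∃ S : Subgroup G, Nat.card S = 4 ∧ z ∉ S ∧ (∀ d ∈ S, d ∈ D.fib (plA i) ∧ g⁻¹ * d * g ∈ J) ∧
      (∀ v, D.Mem i v ↔ v = x ∨ ∃ d ∈ S, d ≠ 1 ∧ v = x * (z * d)) ∧
      {v | D.Mem i v}.ncard = 4 ∧ ¬ IsConj z (x * z) := by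
  classical
  obtain ⟨hx, hxz, he⟩ := id h
  set S : Subgroup G := J ⊓ J.map (MulAut.conj g).toMonoidHom with hS
  have hSmem : ∀ {d : G}, d ∈ S ↔ d ∈ J ∧ g⁻¹ * d * g ∈ J := fun {d} => by
    rw [hS, Subgroup.mem_inf]
    refine and_congr_right fun _ => ⟨?_, fun h' => ⟨_, h', ?_⟩⟩
    · rintro ⟨a, ha, rfl⟩
      rw [show g⁻¹ * (MulAut.conj g).toMonoidHom a * g = a by simp [mul_assoc]]
      exact ha
    · simp [mul_assoc]
  have hzS : z ∉ S := fun hz => by
    have h1 := D.weak' (isConj_iff.2 ⟨g⁻¹, by rw [inv_inv]⟩) (hSmem.1 hz).2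
    refine H82.U6Loc.Local.Mem.ne D hi h ?_
    calc x = g * (g⁻¹ * z * g) * g⁻¹ := by rw [h1, hg]
      _ = z := by group
  have hSpl : ∀ d ∈ S, d ∈ D.fib (plA i) := fun d hd => by
    obtain ⟨hdJ, hdg⟩ := hSmem.1 hd
    refine ⟨hdJ, (D.pp_perp hi).2 _ (D.vec_lt _ hdJ) fun u hu => ?_⟩
    obtain ⟨a, ha, rfl⟩ := D.exists_vec (D.pp_lt i hu)
    have hc := D.cent_pp hi h a ⟨ha, hu⟩
    have hga : g⁻¹ * a * g ∈ centralizer ({z} : Set G) := mem_centralizer_singleton_iff.2 (by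
      calc g⁻¹ * a * g * z = g⁻¹ * (a * (g * z * g⁻¹)) * g := by group
        _ = g⁻¹ * ((g * z * g⁻¹) * a) * g := by rw [hg, hc]
        _ = z * (g⁻¹ * a * g) := by group)
    refine (D.comm_iff hdJ ha).1 ?_
    rcases D.conj_J ha hdJ with e | e
    · exact ((mul_inv_eq_iff_eq_mul.1 e).symm : d * a = a * d)
    · exfalso
      refine hzS (hSmem.2 ⟨D.z_mem, ?_⟩)
      have h1 : (g⁻¹ * d * g)⁻¹ * (g⁻¹ * a * g * (g⁻¹ * d * g) * (g⁻¹ * a * g)⁻¹) ∈ J :=
        mul_mem (inv_mem hdg) (D.conj_mem hga hdg)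
      rwa [show g⁻¹ * a * g * (g⁻¹ * d * g) * (g⁻¹ * a * g)⁻¹ = g⁻¹ * (a * d * a⁻¹) * g by group, e,
        show (g⁻¹ * d * g)⁻¹ * (g⁻¹ * (d * z) * g) = g⁻¹ * z * g by group] at h1
  have hz := D.z_mem_pl hi
  have hle : Nat.card S ≤ 4 := by
    have h8 := D.ncard_pl hi
    let f : S × Fin 2 → D.fib (plA i) := fun p =>
      if p.2 = 0 then ⟨p.1, hSpl _ p.1.2⟩
      else ⟨p.1 * z, (D.fib_pl_facts hi (hSpl _ p.1.2) hz).1⟩
    have hf : Function.Injective f := by
      rintro ⟨⟨a, ha⟩, u⟩ ⟨⟨b, hb⟩, v⟩ e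
      have e' := congrArg (fun q : D.fib (plA i) => (q : G)) e
      fin_cases u <;> fin_cases v <;> simp [f] at e' ⊢
      · exact e'
      · refine hzS ?_
        rw [show z = b⁻¹ * a by rw [e']; group]
        exact mul_mem (inv_mem hb) ha
      · refine hzS ?_
        rw [show z = a⁻¹ * b by rw [← e']; group]
        exact mul_mem (inv_mem ha) hb
      · exact e'
    have := Nat.card_le_card_of_injective f hf
    rw [Nat.card_prod, Nat.card_fin, Nat.card_coe_set_eq, h8] at this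
    omega
  have hcard : Nat.card S = 4 := by
    obtain ⟨j, hj, hjk⟩ := (Nat.dvd_prime_pow Nat.prime_two).1
      (D.card_J ▸ Subgroup.card_dvd_of_le (inf_le_left : S ≤ J))
    rcases Nat.lt_or_ge j 2 with h2 | h2
    swap
    · have := Nat.pow_le_pow_right (show 0 < 2 by norm_num) h2
      rw [hjk] at hle ⊢
      norm_num at this
      omega
    exfalso
    have hS2 : Nat.card S ≤ 2 := hjk ▸ Nat.pow_le_pow_right (show 0 < 2 by norm_num) (Nat.lt_succ_iff.1 h2)
    -- the image of the stabiliser would be a Sylow subgroup with small derived group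
    set A : Subgroup G := J ⊓ centralizer ({x} : Set G) with hA
    have hAc : Nat.card A = 128 := by
      show Nat.card (A : Set G) = 128
      have : (A : Set G) = D.fib (ppA i) := Set.Subset.antisymm (D.centJ_tv hx hi he) fun a ha =>
        ⟨ha.1, mem_centralizer_singleton_iff.2 (D.cent_pp hi h a ha).symm⟩
      rw [Nat.card_coe_set_eq, this, D.ncard_fib (D.pp_nodup i) (fun v => D.pp_lt i),
        (D.pp_perp hi).1]
    have hconjC : ∀ a ∈ A, g⁻¹ * a * g ∈ centralizer ({z} : Set G) := fun a ha =>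
      mem_centralizer_singleton_iff.2 (by
        calc g⁻¹ * a * g * z = g⁻¹ * (a * (g * z * g⁻¹)) * g := by group
          _ = g⁻¹ * ((g * z * g⁻¹) * a) * g := by rw [hg, mem_centralizer_singleton_iff.1 ha.2]
          _ = z * (g⁻¹ * a * g) := by group)
    have hp : IsPGroup 2 ↥(A.map (MulAut.conj g⁻¹).toMonoidHom) :=
      IsPGroup.map (IsPGroup.of_card (n := 7) (hAc.trans (by norm_num))) _
    obtain ⟨c, hc, hcT⟩ := D.conj_into_syl hp (by
      rintro _ ⟨a, ha, rfl⟩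
      show g⁻¹ * a * g⁻¹⁻¹ ∈ _
      rw [inv_inv]; exact hconjC a ha)
    set k : G := c * g⁻¹ with hk
    have hkT : ∀ a ∈ A, k * a * k⁻¹ ∈ D.syl := fun a ha => by
      have := hcT _ ⟨a, ha, rfl⟩
      rw [show k * a * k⁻¹ = c * (MulAut.conj g⁻¹).toMonoidHom a * c⁻¹ by simp [hk, mul_assoc]]
      exact this
    haveI := Fintype.ofFinite A
    let F : Finset (List ℕ) := Finset.univ.image fun a : A => D.act (k * a * k⁻¹)
    have hfib := Finset.card_le_mul_card_image (Finset.univ : Finset A) (Nat.card S)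
      (f := fun a : A => D.act (k * a * k⁻¹)) fun s hs => by
      obtain ⟨a₀, -, rfl⟩ := Finset.mem_image.1 hs
      rw [← Fintype.card_coe, ← Nat.card_eq_fintype_card]
      refine Nat.card_le_card_of_injective (fun a => (⟨(a₀ : G)⁻¹ * (a.1 : G), hSmem.2
        ⟨J.mul_mem (J.inv_mem a₀.2.1) a.1.2.1, ?_⟩⟩ : S)) fun a b e =>
          Subtype.ext (Subtype.ext (mul_left_cancel (congrArg (fun q : S => (q : G)) e)))
      have hJ := (D.act_eq_iff (hkT _ a₀.2).1 (hkT _ a.1.2).1).1 (Finset.mem_filter.1 a.2).2.symm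
      have := D.conj_mem (inv_mem hc) hJ
      convert this using 1
      simp only [hk]
      group
    rw [Finset.card_univ, ← Nat.card_eq_fintype_card, hAc] at hfib
    change 128 ≤ Nat.card S * F.card at hfib
    have hF : F = sylT.toFinset := Finset.eq_of_subset_of_card_le (fun s hs => by
      obtain ⟨a, -, rfl⟩ := Finset.mem_image.1 hs
      exact List.mem_toFinset.2 (hkT _ a.2).2)
      (le_trans (List.toFinset_card_le _) (by rw [D.sylT_facts.1]; nlinarith))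
    have hzA : z ∈ A := ⟨D.z_mem, mem_centralizer_singleton_iff.2 (D.zc hx).symm⟩
    obtain ⟨u, hu, hue⟩ : ∃ u ∈ A, D.act (k * u * k⁻¹) = D.act (k * z * k⁻¹) := ⟨z, hzA, rfl⟩
    have hcm := (List.all_eq_true.1 comm_ok) _ (hkT z hzA).2
    simp only [List.any_eq_true, Bool.and_eq_true, Bool.not_eq_true', beq_eq_false_iff_ne] at hcm
    obtain ⟨s, hs, t, ht, hne1, hne2⟩ := hcm
    have hget : ∀ s ∈ sylT, ∃ a ∈ A, D.act (k * a * k⁻¹) = s := fun s hs => by
      obtain ⟨a, -, rfl⟩ := Finset.mem_image.1 (hF.symm ▸ List.mem_toFinset.2 hs)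
      exact ⟨a, a.2, rfl⟩
    obtain ⟨a, ha, rfl⟩ := hget s hs
    obtain ⟨b, hb, rfl⟩ := hget t ht
    have hAC := (hkT a ha).1
    have hBC := (hkT b hb).1
    have hZC := (hkT z hzA).1
    rw [← D.act_mul _ hAC _ hBC, ← D.act_mul _ hBC _ hAC] at hne1
    rw [← D.act_mul _ hAC _ hBC, ← D.act_mul _ hBC _ hAC, ← D.act_mul _ hZC _ (mul_mem hBC hAC)] at hne2
    have hab := D.comm_J ha.1 hb.1
    split_ifs at hab
    · refine hne2 (congrArg D.act ?_)
      calc k * a * k⁻¹ * (k * b * k⁻¹) = k * (a * b) * k⁻¹ := by group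
        _ = k * (z * (b * a)) * k⁻¹ := by rw [hab, D.zc (D.J_le (J.mul_mem hb.1 ha.1))]
        _ = _ := by group
    · refine hne1 (congrArg D.act ?_)
      calc k * a * k⁻¹ * (k * b * k⁻¹) = k * (a * b) * k⁻¹ := by group
        _ = k * (b * a) * k⁻¹ := by rw [hab]
        _ = _ := by group
  -- the possible members
  have hxd : ∀ d ∈ S, IsConj z (x * d) → d = 1 := fun d hd hcd => by
    have hj : g⁻¹ * (x * d) * g ∈ J := by
      rw [show g⁻¹ * (x * d) * g = (g⁻¹ * x * g) * (g⁻¹ * d * g) by group,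
        show g⁻¹ * x * g = z by rw [← hg]; group]
      exact mul_mem D.z_mem (hSmem.1 hd).2
    have h1 := D.weak' (hcd.trans (isConj_iff.2 ⟨g⁻¹, by rw [inv_inv]⟩)) hj
    refine mul_eq_left.1 (show x * d = x from ?_)
    calc x * d = g * (g⁻¹ * (x * d) * g) * g⁻¹ := by group
      _ = x := by rw [h1, hg]
  have hWp : ∀ w ∈ D.fib (plA i), w ∈ S ∨ ∃ d ∈ S, w = z * d := by
    intro w hw
    by_contra hno
    push Not at hno
    let f : Option (S × Fin 2) → D.fib (plA i) := fun p =>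
      p.elim ⟨w, hw⟩ fun p => if p.2 = 0 then ⟨p.1, hSpl _ p.1.2⟩
        else ⟨z * p.1, (D.fib_pl_facts hi hz (hSpl _ p.1.2)).1⟩
    have hf : Function.Injective f := by
      rintro (_ | ⟨⟨a, ha⟩, u⟩) (_ | ⟨⟨b, hb⟩, v⟩) e
      · rfl
      · have e' := congrArg (fun q : D.fib (plA i) => (q : G)) e
        fin_cases v <;> simp [f] at e'
        · exact absurd (e' ▸ hb) hno.1
        · exact absurd e' (hno.2 b hb)
      · have e' := congrArg (fun q : D.fib (plA i) => (q : G)) e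
        fin_cases u <;> simp [f] at e'
        · exact absurd (e'.symm ▸ ha) hno.1
        · exact absurd e'.symm (hno.2 a ha)
      · have e' := congrArg (fun q : D.fib (plA i) => (q : G)) e
        fin_cases u <;> fin_cases v <;> simp [f] at e' ⊢
        · exact e'
        · refine hzS ?_
          rw [show z = a * b⁻¹ by rw [e']; group]
          exact mul_mem ha (inv_mem hb)
        · refine hzS ?_
          rw [show z = b * a⁻¹ by rw [← e']; group]
          exact mul_mem hb (inv_mem ha)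
        · exact e'
    have := Nat.card_le_card_of_injective f hf
    rw [Finite.card_option, Nat.card_prod, Nat.card_fin, Nat.card_coe_set_eq, D.ncard_pl hi, hcard] at this
    omega
  set O : Set G := (fun m => m * x * m⁻¹) '' (J : Set G) with hO
  have hO4 : O.ncard = 4 := by
    have horb := H33.FiLocal.card_eq_orbit_mul (M := J) x
    have hK : ((J ⊓ centralizer ({x} : Set G) : Subgroup G) : Set G) = D.fib (ppA i) :=
      Set.Subset.antisymm (D.centJ_tv hx hi he) fun a ha =>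
        ⟨ha.1, mem_centralizer_singleton_iff.2 (D.cent_pp hi h a ha).symm⟩
    have hKc : Nat.card ↥(J ⊓ centralizer ({x} : Set G)) = 128 := by
      refine (Nat.card_coe_set_eq _).trans ?_
      rw [hK, D.ncard_fib (D.pp_nodup i) (fun v => D.pp_lt i), (D.pp_perp hi).1]
    rw [D.card_J, hKc, ← hO] at horb
    omega
  have hcases : ∀ v, D.Mem i v → v = x ∨ v = x * z ∨ ∃ d ∈ S, d ≠ 1 ∧ v = x * (z * d) := by
    intro v hv
    have hw := D.mem_coset hi h hv
    rcases hWp _ hw with h1 | ⟨d, hd, h1⟩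
    · left
      have := hxd _ h1 (by rw [mul_inv_cancel_left]; exact hv.2.1)
      exact (inv_mul_eq_one.1 this).symm
    · rcases eq_or_ne d 1 with rfl | hd1
      · right; left
        rw [mul_one] at h1
        rw [← h1, mul_inv_cancel_left]
      · exact Or.inr (Or.inr ⟨d, hd, hd1, by rw [← h1, mul_inv_cancel_left]⟩)
  have hnz : ¬ IsConj z (x * z) := by
    intro hcz
    have hxzM : D.Mem i (x * z) := ⟨mul_mem hx D.z_mem_C, hcz, by
      rw [← he]; exact ((D.act_eq_iff hx (mul_mem hx D.z_mem_C)).2 (by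
        rw [inv_mul_cancel_left]; exact D.z_mem)).symm⟩
    obtain ⟨v, hv, hvne⟩ : ∃ v ∈ O, v ≠ x ∧ v ≠ x * z := by
      by_contra hall
      push Not at hall
      have := Set.ncard_le_ncard (show O ⊆ {x, x * z} from fun v hv => by
        rcases eq_or_ne v x with e | e
        exacts [Or.inl e, Or.inr (hall v hv e)]) (Set.toFinite _)
      have h2 := Set.ncard_insert_le x ({x * z} : Set G)
      rw [Set.ncard_singleton] at h2
      have h3 : O.ncard = 4 := hO4
      linarith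
    obtain ⟨m, hm, hmv⟩ := hv
    have hvM : D.Mem i v := hmv ▸ D.mem_conj_J h hm
    have hvzc : IsConj z (v * z) := hcz.trans (isConj_iff.2 ⟨m, by
      have hmz := D.zc (D.J_le hm)
      rw [← hmv]
      calc m * (x * z) * m⁻¹ = m * x * (z * m⁻¹) := by group
        _ = m * x * (m⁻¹ * z) := by rw [(D.zc (inv_mem (D.J_le hm))).symm]
        _ = m * x * m⁻¹ * z := by group⟩)
    obtain ⟨d, hd, hd1, rfl⟩ := (hcases v hvM).resolve_left hvne.1 |>.resolve_left hvne.2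
    refine hd1 (hxd d hd ?_)
    rwa [show x * (z * d) * z = x * d by
      rw [mul_assoc, mul_assoc, D.zc (D.J_le (hSmem.1 hd).1), ← mul_assoc z, D.z_sq, one_mul]] at hvzc
  set T : Set G := insert x ((fun d => x * (z * d)) '' ((S : Set G) \ {1})) with hT
  have hT4 : T.ncard ≤ 4 := by
    refine (Set.ncard_insert_le _ _).trans ?_
    have h1 := Set.ncard_image_le (f := fun d => x * (z * d)) (Set.toFinite ((S : Set G) \ {1}))
    rw [Set.ncard_sdiff_singleton_of_mem S.one_mem,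
      show (S : Set G).ncard = 4 from (Nat.card_coe_set_eq _).symm.trans hcard] at h1
    omega
  have hsub : {v | D.Mem i v} ⊆ T := fun v hv => by
    rcases hcases v hv with e | e | ⟨d, hd, hd1, e⟩
    · exact Or.inl e
    · exact absurd (e ▸ hv.2.1) hnz
    · exact Or.inr ⟨d, ⟨hd, hd1⟩, e.symm⟩
  have hOM : O ⊆ {v | D.Mem i v} := by rintro _ ⟨m, hm, rfl⟩; exact D.mem_conj_J h hm
  have hMT : {v | D.Mem i v} = T := Set.eq_of_subset_of_ncard_le hsub
    (hT4.trans (hO4.symm.le.trans (Set.ncard_le_ncard hOM (Set.toFinite _)))) (Set.toFinite _)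
  refine ⟨S, hcard, hzS, fun d hd => ⟨hSpl d hd, (hSmem.1 hd).2⟩, fun v => ⟨fun hv => ?_, ?_⟩, ?_, hnz⟩
  · rcases hcases v hv with e | e | e
    exacts [Or.inl e, absurd (e ▸ hv.2.1) hnz, Or.inr e]
  · intro hv
    have : v ∈ T := hv.elim Or.inl fun ⟨d, hd, hd1, e⟩ => Or.inr ⟨d, ⟨hd, hd1⟩, e.symm⟩
    exact hMT.symm.subset this
  · exact le_antisymm (hMT ▸ hT4) (hO4.symm.le.trans (Set.ncard_le_ncard hOM (Set.toFinite _)))

end H82.U6Loc.Local
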