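import Cfsg.Agent.H82.U6Loc.Line
import Cfsg.Agent.H23.Three.Linear

/-!
An involution over the second class that is conjugate to `z` forces the group over the line to be
elementary abelian and weakly closed; then its normaliser controls fusion in it.
-/

set_option autoImplicit false
set_option linter.unusedSectionVars false
set_option linter.style.haveILetI false

namespace H82.U6Loc.Local

open Subgroup

variable {G : Type*} [Group G] [Finite G] {z : G} {J : Subgroup G} (D : Local z J)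
include D

theorem exists_lift {x : G} (hx : x ∈ centralizer ({z} : Set G)) (h2 : x * x = 1)
    (hr : D.act x ∈ rB) {r : List ℕ} (hr' : r ∈ rB) :
    ∃ y ∈ D.Ec, y * y = 1 ∧ D.act y = r := by
  obtain ⟨n, hn, -, he⟩ := D.move_B hx hr hr'
  have hy : n * x * n⁻¹ ∈ centralizer ({z} : Set G) := mul_mem (mul_mem hn hx) (inv_mem hn)
  have hy2 : n * x * n⁻¹ * (n * x * n⁻¹) = 1 := by
    rw [show n * x * n⁻¹ * (n * x * n⁻¹) = n * (x * x) * n⁻¹ by group, h2]; group
  exact ⟨_, D.mem_Ec.2 ⟨⟨hy, he ▸ (D.rB_facts hr').1⟩, (D.cent_B hy hy2 (he ▸ hr')).1⟩, hy2, he⟩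

/-- The group over the line is elementary abelian of order `2 ^ 9`. -/
theorem Ec_elementary {x : G} (hx : x ∈ centralizer ({z} : Set G)) (h2 : x * x = 1)
    (hr : D.act x ∈ rB) :
    (∀ a ∈ D.Ec, ∀ b ∈ D.Ec, a * b = b * a) ∧ (∀ a ∈ D.Ec, a * a = 1) ∧
      Nat.card D.Ec = 2 ^ 9 := by
  classical
  choose! lift hlift hsq hact using fun r (h : r ∈ rB) => D.exists_lift hx h2 hr h
  have hcos : ∀ e ∈ D.Ec, D.act e ∈ rB → e * e = 1 := fun e he her => by
    set y := lift (D.act e) with hy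
    have hyE := hlift _ her
    obtain ⟨⟨heC, -⟩, -⟩ := D.mem_Ec.1 he
    obtain ⟨⟨hyC, -⟩, hyc⟩ := D.mem_Ec.1 hyE
    have hw : y⁻¹ * e ∈ D.W :=
      D.Ec_inf_J (mul_mem (inv_mem hyE) he) ((D.act_eq_iff hyC heC).1 (hact _ her))
    have hyw : y * (y⁻¹ * e) = y⁻¹ * e * y := hyc _ hw
    have hy2 : y * y = 1 := hsq _ her
    calc e * e = y * (y⁻¹ * e * y) * (y⁻¹ * e) := by group
      _ = y * y * ((y⁻¹ * e) * (y⁻¹ * e)) := by rw [← hyw]; group
      _ = 1 := by rw [hy2, D.W_sq hw, one_mul]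
  have hstar := star_ok
  simp only [Bool.and_eq_true, List.all_eq_true, List.contains_iff_mem, Bool.or_eq_true,
    beq_iff_eq, List.any_eq_true, List.mem_sublists] at hstar
  obtain ⟨⟨-, hs⟩, hgen⟩ := hstar
  have hpair : ∀ r ∈ rStar, ∀ s ∈ rStar, lift r * lift s = lift s * lift r := fun r hr' s hs' => by
    rcases (hs r hr').2 s hs' with h | h
    · rw [h]
    · have ha := hlift _ (hs r hr').1
      have hb := hlift _ (hs s hs').1
      have := hcos _ (mul_mem ha hb) (by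
        rw [D.act_mul _ (D.mem_Ec.1 ha).1.1 _ (D.mem_Ec.1 hb).1.1, hact _ (hs r hr').1,
          hact _ (hs s hs').1]
        exact h)
      calc lift r * lift s = (lift r * lift s)⁻¹ := eq_inv_of_mul_eq_one_right this
        _ = lift s * lift r := by
          rw [mul_inv_rev, inv_eq_of_mul_eq_one_right (hsq _ (hs r hr').1),
            inv_eq_of_mul_eq_one_right (hsq _ (hs s hs').1)]
  set S : Set G := (D.W : Set G) ∪ lift '' {r | r ∈ rStar} with hS
  have hScomm : ∀ a ∈ S, ∀ b ∈ S, a * b = b * a := by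
    rintro a (ha | ⟨r, hr', rfl⟩) b (hb | ⟨s, hs', rfl⟩)
    · exact D.W_comm ha hb
    · exact ((D.mem_Ec.1 (hlift _ (hs s hs').1)).2 a ha).symm
    · exact (D.mem_Ec.1 (hlift _ (hs r hr').1)).2 b hb
    · exact hpair r hr' s hs'
  have hSE : closure S ≤ D.Ec := (closure_le _).2 (by
    rintro a (ha | ⟨r, hr', rfl⟩)
    exacts [D.W_le_Ec ha, hlift _ (hs r hr').1])
  have hword : ∀ l : List (List ℕ), (∀ r ∈ l, r ∈ rStar) →
      ∃ u ∈ closure S, D.act u = l.foldr mm mI := fun l => by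
    induction l with
    | nil => exact fun _ => ⟨1, one_mem _, D.act_one⟩
    | cons r l ih =>
      intro hl
      obtain ⟨u, hu, hue⟩ := ih fun s hs' => hl s (List.mem_cons_of_mem _ hs')
      have hr' := hl r (List.mem_cons_self ..)
      have hm : lift r ∈ closure S := subset_closure (Or.inr ⟨r, hr', rfl⟩)
      exact ⟨lift r * u, mul_mem hm hu, by
        rw [D.act_mul _ (D.mem_Ec.1 (hSE hm)).1.1 _ (D.mem_Ec.1 (hSE hu)).1.1, hue,
          hact _ (hs r hr').1]
        rfl⟩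
  have hgen' : ∀ s ∈ rAll, ∃ u ∈ closure S, D.act u = s := fun s hs' => by
    obtain ⟨l, hl, rfl⟩ := hgen s hs'
    exact hword l fun r hr' => hl.subset hr'
  have htop : D.Ec = closure S := le_antisymm (fun e he => by
    obtain ⟨u, hu, hue⟩ := hgen' _ (D.mem_Ec.1 he).1.2
    have hw : u⁻¹ * e ∈ D.W := D.Ec_inf_J (mul_mem (inv_mem (hSE hu)) he)
      ((D.act_eq_iff (D.mem_Ec.1 (hSE hu)).1.1 (D.mem_Ec.1 he).1.1).1 hue)
    have := mul_mem hu (subset_closure (k := S) (Or.inl hw))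
    rwa [mul_inv_cancel_left] at this) hSE
  have hcomm : ∀ a ∈ D.Ec, ∀ b ∈ D.Ec, a * b = b * a := by
    rw [htop]
    intro a ha b hb
    have h1 : closure S ≤ centralizer S := (closure_le _).2 fun a ha b hb => hScomm b hb a ha
    have h2 : closure S ≤ centralizer (closure S : Set G) := (closure_le _).2 fun a ha b hb =>
      (mem_centralizer_iff.1 (h1 hb) a ha).symm
    exact (mem_centralizer_iff.1 (h2 ha) b hb).symm
  refine ⟨hcomm, fun a ha => ?_, ?_⟩
  · rw [htop] at ha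
    induction ha using closure_induction with
    | mem a ha =>
      rcases ha with ha | ⟨r, hr', rfl⟩
      exacts [D.W_sq ha, hsq _ (hs r hr').1]
    | one => rw [one_mul]
    | mul a b ha hb iha ihb =>
      rw [show a * b * (a * b) = a * (b * a) * b by group,
        ← hcomm a (htop.ge ha) b (htop.ge hb), show a * (a * b) * b = (a * a) * (b * b) by group,
        iha, ihb, one_mul]
    | inv a ha iha => rw [← mul_inv_rev, iha, inv_one]
  · choose! rep hrep hrepe using hgen'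
    let f : {s // s ∈ rAll} × D.W → D.Ec := fun p =>
      ⟨rep p.1 * p.2, mul_mem (hSE (hrep _ p.1.2)) (D.W_le_Ec p.2.2)⟩
    have hf : Function.Bijective f := by
      refine ⟨?_, fun ⟨e, he⟩ => ?_⟩
      · rintro ⟨⟨s, hs'⟩, ⟨a, ha⟩⟩ ⟨⟨t, ht⟩, ⟨b, hb⟩⟩ e
        have e' : rep s * a = rep t * b := congrArg Subtype.val e
        have hst : s = t := by
          rw [← hrepe s hs', ← hrepe t ht, D.act_eq_iff (D.mem_Ec.1 (hSE (hrep s hs'))).1.1
            (D.mem_Ec.1 (hSE (hrep t ht))).1.1,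
            show (rep s)⁻¹ * rep t = a * b⁻¹ from eq_mul_inv_iff_mul_eq.2 (by
              rw [mul_assoc, ← e', inv_mul_cancel_left])]
          exact mul_mem ha.1 (inv_mem hb.1)
        subst hst
        rw [mul_left_cancel_iff] at e'
        subst e'
        rfl
      · have h := (D.mem_Ec.1 he).1
        refine ⟨⟨⟨_, h.2⟩, ⟨(rep (D.act e))⁻¹ * e, D.Ec_inf_J (mul_mem (inv_mem (hSE (hrep _ h.2))) he)
          ((D.act_eq_iff (D.mem_Ec.1 (hSE (hrep _ h.2))).1.1 h.1).1 (hrepe _ h.2))⟩⟩,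
          Subtype.ext (mul_inv_cancel_left _ _)⟩
    have hlen : rAll.length = 16 := by decide +kernel
    rw [← Nat.card_congr (Equiv.ofBijective f hf), Nat.card_prod, D.card_W,
      Nat.card_congr (Equiv.subtypeEquivRight fun s => (List.mem_toFinset (l := rAll)).symm),
      Nat.card_eq_fintype_card, Fintype.card_coe, List.toFinset_card_of_nodup D.rAll_facts.1, hlen]
    norm_num

/-- It is the only such subgroup of the Sylow subgroup. -/
theorem eq_Ec {x : G} (hx : x ∈ centralizer ({z} : Set G)) (h2 : x * x = 1) (hr : D.act x ∈ rB)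
    {U : Subgroup G} (hU : U ≤ D.syl) (hab : ∀ a ∈ U, ∀ b ∈ U, a * b = b * a)
    (hsq : ∀ a ∈ U, a * a = 1) (hcard : Nat.card U = 2 ^ 9) : U = D.Ec := by
  classical
  haveI := Fintype.ofFinite U
  set A : Subgroup G := U ⊓ J with hA
  let F : Finset (List ℕ) := Finset.univ.image fun u : U => D.act u
  have hF : ∀ s ∈ F, ∃ u ∈ U, D.act u = s := fun s hs => by
    obtain ⟨u, -, rfl⟩ := Finset.mem_image.1 hs
    exact ⟨u, u.2, rfl⟩
  obtain ⟨hF16, hFR⟩ := D.elem_image hU hab hsq F hF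
  have hA32 : Nat.card A ≤ 32 := D.card_abelian_le inf_le_right fun a ha b hb => hab a ha.1 b hb.1
  have hfib := Finset.card_le_mul_card_image (Finset.univ : Finset U) (Nat.card A)
    (f := fun u : U => D.act u) fun s hs => by
    obtain ⟨u₀, -, rfl⟩ := Finset.mem_image.1 hs
    rw [← Fintype.card_coe, ← Nat.card_eq_fintype_card]
    refine Nat.card_le_card_of_injective (fun u => (⟨(u₀ : G)⁻¹ * (u.1 : G),
      U.mul_mem (U.inv_mem u₀.2) u.1.2,
      (D.act_eq_iff (hU u₀.2).1 (hU u.1.2).1).1 (Finset.mem_filter.1 u.2).2.symm⟩ : A))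
      fun a b e => ?_
    exact Subtype.ext (Subtype.ext (mul_left_cancel (congrArg (fun q : A => (q : G)) e)))
  rw [Finset.card_univ, ← Nat.card_eq_fintype_card, hcard] at hfib
  change 2 ^ 9 ≤ Nat.card A * F.card at hfib
  have hFc : 15 < F.card := by nlinarith
  have hAc : 32 ≤ Nat.card A := by nlinarith
  have hFall : F = rAll.toFinset := Finset.eq_of_subset_of_card_le
    (fun s hs => List.mem_toFinset.2 (hFR hFc s hs))
    (le_trans (List.toFinset_card_le _) (le_trans (by decide +kernel : rAll.length ≤ 16) hFc))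
  have hAW : A ≤ D.W := fun a ha => by
    obtain ⟨u, hu, hue⟩ := hF _ (hFall.symm ▸ List.mem_toFinset.2 (D.rB_facts hr).1)
    refine ⟨ha.2, (D.rB_facts hr).2.2.2 _ (D.vec_lt a ha.2) ?_⟩
    rw [← hue, ← D.act_conj _ (hU hu).1 _ ha.2, hab u hu a ha.1, mul_inv_cancel_right]
  have hAe : A = D.W := eq_of_le_of_card_ge hAW (by rw [D.card_W]; exact hAc)
  refine eq_of_le_of_card_ge (fun u hu => D.mem_Ec.2 ⟨⟨(hU hu).1, ?_⟩, fun w hw => ?_⟩)
    (by rw [hcard, (D.Ec_elementary hx h2 hr).2.2])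
  · exact hFR hFc _ (Finset.mem_image.2 ⟨⟨u, hu⟩, Finset.mem_univ _, rfl⟩)
  · exact hab u hu w (hAe.ge hw).1

/-- The conjugates of `z` in the group over the line. -/
def conjEc : Set G := {v | v ∈ D.Ec ∧ IsConj z v}

theorem burnside {x : G} (hx : x ∈ centralizer ({z} : Set G)) (h2 : x * x = 1) (hr : D.act x ∈ rB)
    {v : G} (hv : v ∈ D.conjEc) : ∃ n ∈ normalizer (D.Ec : Set G), n * z * n⁻¹ = v := by
  obtain ⟨hab, hsq, hcard⟩ := D.Ec_elementary hx h2 hr
  obtain ⟨g, hg⟩ := isConj_iff.1 hv.2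
  set U : Subgroup G := D.Ec.map (MulAut.conj g⁻¹).toMonoidHom with hU
  have hUC : U ≤ centralizer ({z} : Set G) := by
    rintro _ ⟨a, ha, rfl⟩
    refine mem_centralizer_singleton_iff.2 ?_
    show g⁻¹ * a * g⁻¹⁻¹ * z = z * (g⁻¹ * a * g⁻¹⁻¹)
    calc g⁻¹ * a * g⁻¹⁻¹ * z = g⁻¹ * (a * (g * z * g⁻¹)) * g := by group
      _ = g⁻¹ * ((g * z * g⁻¹) * a) * g := by rw [hg, hab a ha v hv.1]
      _ = _ := by group
  have hUcard : Nat.card U = 2 ^ 9 := by
    rw [hU, ← Nat.card_congr (D.Ec.equivMapOfInjective _ (MulAut.conj g⁻¹).injective).toEquiv, hcard]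
  obtain ⟨c, hc, hcT⟩ := D.conj_into_syl (IsPGroup.of_card hUcard) hUC
  set k : G := c * g⁻¹
  have he : D.Ec.map (MulAut.conj k).toMonoidHom = D.Ec := by
    refine D.eq_Ec hx h2 hr ?_ ?_ ?_ ?_
    · rintro _ ⟨a, ha, rfl⟩
      have := hcT _ ⟨a, ha, rfl⟩
      show k * a * k⁻¹ ∈ D.syl
      rw [show k * a * k⁻¹ = c * (g⁻¹ * a * g⁻¹⁻¹) * c⁻¹ by simp only [k]; group]
      exact this
    · rintro _ ⟨a, ha, rfl⟩ _ ⟨b, hb, rfl⟩
      rw [← map_mul, ← map_mul, hab a ha b hb]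
    · rintro _ ⟨a, ha, rfl⟩
      rw [← map_mul, hsq a ha, map_one]
    · rw [← Nat.card_congr (D.Ec.equivMapOfInjective _ (MulAut.conj k).injective).toEquiv, hcard]
  refine ⟨k⁻¹, inv_mem (D.mem_normalizer_of_maps fun a ha => he.le ⟨a, ha, rfl⟩), ?_⟩
  have hcz : c * z = z * c := mem_centralizer_singleton_iff.1 hc
  calc k⁻¹ * z * k⁻¹⁻¹ = g * (c⁻¹ * (z * c)) * g⁻¹ := by simp only [k]; group
    _ = v := by rw [← hcz, inv_mul_cancel_left, hg]

theorem card_conjEc {x : G} (hx : x ∈ centralizer ({z} : Set G)) (h2 : x * x = 1)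
    (hr : D.act x ∈ rB) : D.conjEc.ncard ∣ ∏ i : Fin 9, (2 ^ 9 - 2 ^ (i : ℕ)) := by
  obtain ⟨hab, hsq, hcard⟩ := D.Ec_elementary hx h2 hr
  let ψ : ↥(normalizer (D.Ec : Set G)) →* MulAut ↥D.Ec := D.Ec.normalizerMonoidHom
  have hψ : ∀ n (a : D.Ec), ((ψ n a : D.Ec) : G) = n * a * (n : G)⁻¹ := fun _ _ => rfl
  set zV : D.Ec := ⟨z, D.W_le_Ec D.z_mem_W⟩
  let f : MulAction.orbit ψ.range zV → D.conjEc := fun a => ⟨(a.1 : G), by
    obtain ⟨⟨_, n, rfl⟩, hn⟩ := MulAction.mem_orbit_iff.1 a.2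
    refine ⟨a.1.2, isConj_iff.2 ⟨n, ?_⟩⟩
    rw [← hn]
    exact (hψ n zV).symm⟩
  have hf : Function.Bijective f := by
    refine ⟨fun a b h => Subtype.ext (Subtype.ext (congrArg (fun q : D.conjEc => (q : G)) h)),
      fun v => ?_⟩
    obtain ⟨n, hn, hnz⟩ := D.burnside hx h2 hr v.2
    exact ⟨⟨⟨(v : G), v.2.1⟩, MulAction.mem_orbit_iff.2 ⟨⟨ψ ⟨n, hn⟩, ⟨_, rfl⟩⟩,
      Subtype.ext ((hψ ⟨n, hn⟩ zV).trans hnz)⟩⟩, Subtype.ext rfl⟩
  letI : CommGroup D.Ec :=
    { (inferInstance : Group D.Ec) with mul_comm := fun a b => Subtype.ext (hab a a.2 b b.2) }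
  haveI : Fact (Nat.Prime 2) := ⟨Nat.prime_two⟩
  rw [← Nat.card_coe_set_eq, ← Nat.card_congr (Equiv.ofBijective f hf), Nat.card_coe_set_eq,
    ← MulAction.index_stabilizer]
  exact (MulAction.stabilizer ψ.range zV).index_dvd_card.trans
    (H23.Three.card_dvd (p := 2) (n := 9)
      (fun a => Subtype.ext ((pow_two (a : G)).trans (hsq a a.2))) hcard ψ.range)

end H82.U6Loc.Local
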