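import Cfsg.Agent.H82.U6Loc.Base

/-!
A Sylow two-subgroup of the centraliser, the classes of involutions modulo `J`, and elementary
abelian subgroups of order sixteen of the quotient.
-/

set_option autoImplicit false
set_option linter.unusedSectionVars false
set_option linter.style.haveILetI false

namespace H82.U6Loc.Local

open Subgroup

variable {G : Type*} [Group G] [Finite G] {z : G} {J : Subgroup G} (D : Local z J)
include D

/-- The preimage of a closed list of matrices. -/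
def pre (S : List (List ℕ)) (h1 : mI ∈ S) (hm : ∀ a ∈ S, ∀ b ∈ S, mm a b ∈ S) : Subgroup G where
  carrier := {c | c ∈ centralizer ({z} : Set G) ∧ D.act c ∈ S}
  one_mem' := ⟨one_mem _, by rw [D.act_one]; exact h1⟩
  mul_mem' {a b} ha hb := ⟨mul_mem ha.1 hb.1, by rw [D.act_mul _ ha.1 _ hb.1]; exact hm _ ha.2 _ hb.2⟩
  inv_mem' {a} ha := by
    have key : ∀ n : ℕ, a ^ n ∈ centralizer ({z} : Set G) ∧ D.act (a ^ n) ∈ S := by
      intro n
      induction n with
      | zero => rw [pow_zero]; exact ⟨one_mem _, by rw [D.act_one]; exact h1⟩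
      | succ n ih =>
        rw [pow_succ]
        exact ⟨mul_mem ih.1 ha.1, by rw [D.act_mul _ ih.1 _ ha.1]; exact hm _ ih.2 _ ha.2⟩
    have he : a⁻¹ = a ^ (orderOf a - 1) := inv_eq_of_mul_eq_one_right (by
      rw [← pow_succ', Nat.sub_add_cancel (orderOf_pos a), pow_orderOf_eq_one])
    show a⁻¹ ∈ centralizer ({z} : Set G) ∧ D.act a⁻¹ ∈ S
    rw [he]; exact key _

theorem sylT_facts : sylT.length = 64 ∧ sylT.Nodup ∧ mI ∈ sylT ∧ (∀ r ∈ rAll, r ∈ sylT) ∧
    (∀ s ∈ sylT, ∀ t ∈ sylT, mm s t ∈ sylT) ∧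
    ∀ s ∈ sylT, ∃ c ∈ centralizer ({z} : Set G), D.act c = s := by
  have h := syl_ok
  simp only [Bool.and_eq_true, decide_eq_true_eq, List.all_eq_true, beq_iff_eq,
    List.contains_iff_mem, List.mem_range] at h
  obtain ⟨⟨⟨⟨⟨hl, hnd⟩, h1⟩, hR⟩, hw⟩, hk⟩ := h
  have hl' := Nat.eq_of_beq_eq_true hl
  have hget : ∀ s ∈ sylT, ∃ k < 64, sylT.getD k [] = s := fun s hs => by
    obtain ⟨k, hk', e⟩ := List.getElem_of_mem hs
    exact ⟨k, hl' ▸ hk', by rw [List.getD_eq_getElem (hn := hk'), e]⟩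
  refine ⟨hl', hnd, h1, hR, fun s hs t ht => ?_, fun s hs => ?_⟩
  · obtain ⟨k, hk', rfl⟩ := hget s hs
    exact (hk k hk').2 t ht
  · obtain ⟨k, hk', rfl⟩ := hget s hs
    obtain ⟨c, hc, he⟩ := D.exists_act fun i hi => Nat.blt_eq.mp ((hk k hk').1.1 i hi)
    exact ⟨c, hc, he.trans (hk k hk').1.2⟩

theorem rAll_facts : rAll.Nodup ∧ mI ∈ rAll ∧ (∀ r ∈ rAll, ∀ s ∈ rAll, mm r s ∈ rAll) := by
  have h := rAll_ok
  simp only [Bool.and_eq_true, decide_eq_true_eq, List.all_eq_true, List.contains_iff_mem] at h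
  exact ⟨h.1, List.mem_cons_self .., fun r hr s hs => ((h.2 r hr).1 s hs).1⟩

/-- The Sylow subgroup. -/
def syl : Subgroup G := D.pre sylT D.sylT_facts.2.2.1 D.sylT_facts.2.2.2.2.1

/-- The preimage of the elementary group of order sixteen. -/
def preR : Subgroup G := D.pre rAll D.rAll_facts.2.1 D.rAll_facts.2.2

theorem mem_syl {c : G} : c ∈ D.syl ↔ c ∈ centralizer ({z} : Set G) ∧ D.act c ∈ sylT := Iff.rfl

theorem mem_preR {c : G} : c ∈ D.preR ↔ c ∈ centralizer ({z} : Set G) ∧ D.act c ∈ rAll := Iff.rfl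

theorem J_le_syl : J ≤ D.syl := fun a ha =>
  ⟨D.J_le ha, by rw [(D.act_one_iff a (D.J_le ha)).2 ha]; exact D.sylT_facts.2.2.1⟩

theorem J_le_preR : J ≤ D.preR := fun a ha =>
  ⟨D.J_le ha, by rw [(D.act_one_iff a (D.J_le ha)).2 ha]; exact D.rAll_facts.2.1⟩

theorem card_syl : Nat.card D.syl = 2 ^ 15 := by
  obtain ⟨hl, hnd, -, -, -, hs⟩ := D.sylT_facts
  choose! rep hrep hact using hs
  let f : {s // s ∈ sylT} × J → D.syl := fun p => ⟨rep p.1 * p.2,
    mul_mem (show rep p.1 ∈ D.syl from ⟨hrep _ p.1.2, by rw [hact _ p.1.2]; exact p.1.2⟩)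
      (D.J_le_syl p.2.2)⟩
  have hf : Function.Bijective f := by
    refine ⟨?_, ?_⟩
    · rintro ⟨⟨s, hs⟩, ⟨a, ha⟩⟩ ⟨⟨t, ht⟩, ⟨b, hb⟩⟩ e
      have e' : rep s * a = rep t * b := congrArg Subtype.val e
      have hst : s = t := by
        rw [← hact s hs, ← hact t ht, D.act_eq_iff (hrep s hs) (hrep t ht)]
        rw [show (rep s)⁻¹ * rep t = a * b⁻¹ from (eq_mul_inv_iff_mul_eq.2 (by
          rw [mul_assoc, ← e', inv_mul_cancel_left]))]
        exact mul_mem ha (inv_mem hb)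
      subst hst
      rw [mul_left_cancel_iff] at e'
      subst e'
      rfl
    · rintro ⟨c, hc, hs⟩
      refine ⟨⟨⟨_, hs⟩, ⟨(rep (D.act c))⁻¹ * c, ?_⟩⟩, Subtype.ext (mul_inv_cancel_left _ _)⟩
      exact (D.act_eq_iff (hrep _ hs) hc).1 (hact _ hs)
  rw [← Nat.card_congr (Equiv.ofBijective f hf), Nat.card_prod, D.card_J,
    Nat.card_congr (Equiv.subtypeEquivRight fun s => (List.mem_toFinset (l := sylT)).symm),
    Nat.card_eq_fintype_card, Fintype.card_coe, List.toFinset_card_of_nodup hnd, hl]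
  norm_num

theorem conj_into_syl {U : Subgroup G} (hU : IsPGroup 2 U)
    (hUC : U ≤ centralizer ({z} : Set G)) :
    ∃ c ∈ centralizer ({z} : Set G), ∀ u ∈ U, c * u * c⁻¹ ∈ D.syl := by
  haveI : Fact (Nat.Prime 2) := ⟨Nat.prime_two⟩
  have hle : D.syl ≤ centralizer ({z} : Set G) := fun c hc => hc.1
  obtain ⟨S, hS⟩ := (IsPGroup.of_card (n := 15) (show Nat.card
      (D.syl.subgroupOf (centralizer ({z} : Set G))) = 2 ^ 15 by
    rw [Nat.card_congr (subgroupOfEquivOfLe hle).toEquiv, D.card_syl])).exists_le_sylow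
  have hSe : (S : Subgroup ↥(centralizer ({z} : Set G))) =
      D.syl.subgroupOf (centralizer ({z} : Set G)) := by
    refine (Subgroup.eq_of_le_of_card_ge hS ?_).symm
    rw [S.card_eq_multiplicity, Nat.card_congr (subgroupOfEquivOfLe hle).toEquiv, D.card_syl, D.card_C]
    refine Nat.pow_le_pow_right (by norm_num) (Nat.lt_succ_iff.1 (Nat.lt_of_not_le fun h16 => ?_))
    have := (Nat.prime_two.pow_dvd_iff_le_factorization (by norm_num)).2 h16
    norm_num at this
  obtain ⟨S', hS'⟩ := (hU.comap_subtype (K := centralizer ({z} : Set G))).exists_le_sylow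
  obtain ⟨c, hc⟩ := MulAction.exists_smul_eq ↥(centralizer ({z} : Set G)) S' S
  refine ⟨c, c.2, fun u hu => ?_⟩
  have := Subgroup.smul_mem_pointwise_smul _ (MulAut.conj c) _ (hS' (show (⟨u, hUC hu⟩ :
    ↥(centralizer ({z} : Set G))) ∈ U.comap (centralizer ({z} : Set G)).subtype from hu))
  have h2 : c * ⟨u, hUC hu⟩ * c⁻¹ ∈ (S : Subgroup ↥(centralizer ({z} : Set G))) := by
    rw [← hc]; exact this
  rw [hSe] at h2
  exact h2

theorem conj_tv {c x : G} (hc : c ∈ centralizer ({z} : Set G))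
    (hx : x ∈ centralizer ({z} : Set G)) {j : ℕ} (hj : j < 45) (he : D.act x = tvA j) :
    ∃ k < 45, D.act (c * x * c⁻¹) = tvA k := by
  have step : ∀ i < 45, ∀ j < 45, ∃ k < 45, mm (tvA i) (tvA j) = mm (tvA k) (tvA i) := by
    intro i hi j hj
    rcases eq_or_ne i j with rfl | hne
    · exact ⟨i, hi, rfl⟩
    have h := pair_ok ⟨i, hi⟩ ⟨j, hj⟩
    rw [if_neg (fun e => hne (congrArg Fin.val e))] at h
    obtain ⟨-, h⟩ := h
    split_ifs at h
    · exact ⟨j, hj, h.1⟩
    · obtain ⟨-, k, hk, -⟩ := h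
      refine ⟨k, k.2, ?_⟩
      obtain ⟨a, ha, hae⟩ := D.act_surj i hi
      obtain ⟨b, hb, hbe⟩ := D.act_surj j hj
      obtain ⟨d, hd, hde⟩ := D.act_surj k k.2
      have hsq : D.act (a * a) = mI := by
        rw [D.act_mul _ ha _ ha, hae]
        have := (List.all_eq_true.1 tv_ok) i (List.mem_range.2 hi)
        simp only [Bool.and_eq_true, beq_iff_eq] at this
        exact this.1.1
      have h2 : D.act (d * a) = D.act (a * b * (a * a)) := by
        rw [D.act_mul _ hd _ ha, hde, hk, ← hae, ← hbe, ← D.act_mul _ hb _ ha,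
          ← D.act_mul _ ha _ (mul_mem hb ha), ← D.act_mul _ (mul_mem ha (mul_mem hb ha)) _ ha]
        congr 1
        group
      rw [← hbe, ← hde, ← hae, ← D.act_mul _ ha _ hb, ← D.act_mul _ hd _ ha, h2,
        D.act_mul _ (mul_mem ha hb) _ (mul_mem ha ha), hsq, ← D.act_one,
        ← D.act_mul _ (mul_mem ha hb) _ (one_mem _), mul_one]
  obtain ⟨w, hw, hwc⟩ := D.act_word c hc
  suffices ∀ w : List ℕ, (∀ i ∈ w, i < 45) → ∀ d ∈ centralizer ({z} : Set G), D.act d = ev w →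
      ∃ k < 45, D.act (d * x * d⁻¹) = tvA k from this w hw c hc hwc
  intro w
  induction w with
  | nil =>
    intro _ d hd hde
    refine ⟨j, hj, ?_⟩
    have hdJ := (D.act_one_iff d hd).1 hde
    rw [← he, eq_comm, D.act_eq_iff hx (mul_mem (mul_mem hd hx) (inv_mem hd))]
    rw [show x⁻¹ * (d * x * d⁻¹) = (x⁻¹ * d * x) * d⁻¹ by group]
    exact mul_mem (by simpa using D.conj_mem (inv_mem hx) hdJ) (inv_mem hdJ)
  | cons i w ih =>
    intro hw d hd hde
    obtain ⟨a, ha, hae⟩ := D.act_surj i (hw i (List.mem_cons_self ..))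
    have hrest : D.act (a⁻¹ * d) = ev w := by
      obtain ⟨e, he', hee⟩ := D.exists_act fun m hm => hw m (List.mem_cons_of_mem i hm)
      rw [← hee, D.act_eq_iff (mul_mem (inv_mem ha) hd) he']
      have := (D.act_eq_iff hd (mul_mem ha he')).1 (by rw [hde, D.act_mul _ ha _ he', hae, hee]; rfl)
      convert this using 1
      group
    obtain ⟨k, hk, hke⟩ := ih (fun m hm => hw m (List.mem_cons_of_mem i hm)) _
      (mul_mem (inv_mem ha) hd) hrest
    obtain ⟨k', hk', hk'e⟩ := step i (hw i (List.mem_cons_self ..)) k hk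
    obtain ⟨b, hb, hbe⟩ := D.act_surj k' hk'
    have hy : a⁻¹ * d * x * (a⁻¹ * d)⁻¹ ∈ centralizer ({z} : Set G) :=
      mul_mem (mul_mem (mul_mem (inv_mem ha) hd) hx) (inv_mem (mul_mem (inv_mem ha) hd))
    refine ⟨k', hk', ?_⟩
    rw [← hbe, ← D.act_conj_eq ha hy hb (by rw [hae, hke, hbe, hk'e])]
    congr 1
    group

theorem inv_class {x : G} (hx : x ∈ centralizer ({z} : Set G)) (h2 : x * x = 1) (hxJ : x ∉ J) :
    (∃ i < 45, D.act x = tvA i) ∨ ∃ c ∈ centralizer ({z} : Set G), D.act (c * x * c⁻¹) ∈ rB := by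
  have hzp : IsPGroup 2 (zpowers x) := IsPGroup.of_card (n := 1) (by
    rw [Nat.card_zpowers, pow_one]
    exact orderOf_eq_prime (by rw [pow_two, h2]) fun e => hxJ (e ▸ one_mem J))
  obtain ⟨c, hc, hcT⟩ := D.conj_into_syl hzp (zpowers_le.2 hx)
  obtain ⟨-, hT⟩ := hcT x (mem_zpowers x)
  set y := c * x * c⁻¹ with hy
  have hyC : y ∈ centralizer ({z} : Set G) := mul_mem (mul_mem hc hx) (inv_mem hc)
  have hy2 : mm (D.act y) (D.act y) = mI := by
    rw [← D.act_mul _ hyC _ hyC, show y * y = c * (x * x) * c⁻¹ by rw [hy]; group, h2, mul_one,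
      mul_inv_cancel, D.act_one]
  have hy1 : D.act y ≠ mI := fun e => hxJ (by
    have := D.conj_mem (inv_mem hc) ((D.act_one_iff y hyC).1 e)
    rwa [hy, show c⁻¹ * (c * x * c⁻¹) * c⁻¹⁻¹ = x by group] at this)
  have h := (List.all_eq_true.1 inv_ok) _ hT
  simp only [isInv, hy2, beq_self_eq_true, beq_eq_false_iff_ne.2 hy1, Bool.not_false,
    Bool.and_self, Bool.not_true, Bool.false_or, Bool.or_eq_true, List.contains_iff_mem,
    List.any_eq_true, Bool.and_eq_true, beq_iff_eq, List.all_eq_true] at h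
  rcases h with (h | h) | ⟨p, -, ⟨hp1, hp2⟩, r, hr, hre⟩
  · left
    obtain ⟨k, hk, hke⟩ := List.getElem_of_mem h
    have hk45 : k < 45 := tv_len ▸ hk
    have he : D.act y = tvA k := by rw [tvA, List.getD_eq_getElem (hn := hk), hke]
    obtain ⟨i, hi, hie⟩ := D.conj_tv (inv_mem hc) hyC hk45 he
    refine ⟨i, hi, ?_⟩
    rw [← hie]; congr 1; rw [hy]; group
  · exact Or.inr ⟨c, hc, h⟩
  · right
    obtain ⟨n, hn, hne⟩ := D.exists_act fun i hi => Nat.blt_eq.mp (hp2 i hi)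
    obtain ⟨-, -, -, hRT, -, hsurj⟩ := D.sylT_facts
    obtain ⟨b, hb, hbe⟩ := hsurj r (hRT r (List.mem_cons_of_mem _ (List.mem_append_left _ hr)))
    refine ⟨n * c, mul_mem hn hc, ?_⟩
    rw [show n * c * x * (n * c)⁻¹ = n * y * n⁻¹ by rw [hy]; group,
      D.act_conj_eq hn hyC hb (by rw [hne, hbe, hre]), hbe]
    exact hr

/-- Images of elementary abelian subgroups of the Sylow subgroup. -/
theorem elem_image {U : Subgroup G} (hU : U ≤ D.syl) (hab : ∀ a ∈ U, ∀ b ∈ U, a * b = b * a)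
    (h2 : ∀ a ∈ U, a * a = 1) :
    ∀ F : Finset (List ℕ), (∀ s ∈ F, ∃ u ∈ U, D.act u = s) →
      F.card ≤ 16 ∧ (15 < F.card → ∀ s ∈ F, s ∈ rAll) := by
  classical
  intro F hF
  by_cases hall : ∀ s ∈ F, s ∈ rAll
  · refine ⟨le_trans (Finset.card_le_card (t := rAll.toFinset) fun s hs => List.mem_toFinset.2 (hall s hs))
      (le_trans (List.toFinset_card_le _) ?_), fun _ => hall⟩
    decide +kernel
  push Not at hall
  obtain ⟨s, hs, hsR⟩ := hall
  obtain ⟨u, hu, rfl⟩ := hF s hs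
  have hinv : ∀ v ∈ U, D.act v ≠ mI → isInv (D.act v) = true := fun v hv hne => by
    simp [isInv, ← D.act_mul _ (hU hv).1 _ (hU hv).1, h2 v hv, D.act_one, hne]
  have hu1 : D.act u ≠ mI := fun e => hsR (e ▸ D.rAll_facts.2.1)
  have h := (List.all_eq_true.1 e16_ok) _ (hU hu).2
  simp only [hinv u hu hu1, Bool.not_true, Bool.false_or, Bool.or_eq_true,
    List.contains_iff_mem, hsR, false_or] at h
  have h15 := Nat.blt_eq.mp h
  have hsub : F.erase mI ⊆ (sylT.filter fun t =>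
      isInv t && mm (D.act u) t == mm t (D.act u)).toFinset := fun t ht => by
    obtain ⟨v, hv, rfl⟩ := hF t (Finset.mem_of_mem_erase ht)
    rw [List.mem_toFinset, List.mem_filter]
    refine ⟨(hU hv).2, ?_⟩
    simp [hinv v hv (Finset.ne_of_mem_erase ht), ← D.act_mul _ (hU hu).1 _ (hU hv).1,
      ← D.act_mul _ (hU hv).1 _ (hU hu).1, hab u hu v hv]
  have hle := (Finset.card_le_card hsub).trans (List.toFinset_card_le _)
  rw [← List.countP_eq_length_filter] at hle
  have := Finset.pred_card_le_card_erase (s := F) (a := mI)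
  omega

end H82.U6Loc.Local
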