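import Cfsg.Agent.H82.U6Loc.Pre
import Cfsg.Agent.H82.U6Loc.Sylow

/-!
The elementary abelian group of order `2 ^ 9` over a totally singular line.
-/

set_option autoImplicit false
set_option linter.unusedSectionVars false
set_option linter.style.haveILetI false

namespace H82.U6Loc.Local

open Subgroup

variable {G : Type*} [Group G] [Finite G] {z : G} {J : Subgroup G} (D : Local z J)
include D

theorem mem_normalizer_of_maps {S : Subgroup G} {n : G} (h : ∀ x ∈ S, n * x * n⁻¹ ∈ S) :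
    n ∈ normalizer (S : Set G) := by
  have he : S.map (MulAut.conj n).toMonoidHom = S := by
    refine eq_of_le_of_card_ge (by rintro _ ⟨x, hx, rfl⟩; exact h x hx) ?_
    exact (Nat.card_congr (S.equivMapOfInjective _ (MulAut.conj n).injective).toEquiv).le
  refine mem_normalizer_iff.2 fun x => ⟨h x, fun hx => ?_⟩
  obtain ⟨y, hy, e⟩ := (he.symm.le hx : _)
  have e' : n * y * n⁻¹ = n * x * n⁻¹ := e
  exact (mul_left_cancel (mul_right_cancel e') : y = x) ▸ hy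

theorem ln_facts : lnV.length = 16 ∧ lnV.Nodup ∧ 0 ∈ lnV ∧
    (∀ s ∈ lnV, s < 256 ∧ qv s = false) ∧ (∀ s ∈ lnV, ∀ t ∈ lnV, bv s t = false) ∧
    (∀ s ∈ lnV, ∀ t ∈ lnV, s ^^^ t ∈ lnV) ∧
    ∀ v < 256, (∀ u ∈ lnV, bv v u = false) → v ∈ lnV := by
  have h := ln_ok
  simp only [Bool.and_eq_true, decide_eq_true_eq, List.all_eq_true, List.contains_iff_mem,
    Bool.not_eq_true', List.mem_range, Bool.or_eq_true, List.any_eq_true] at h
  obtain ⟨⟨⟨⟨hl, hnd⟩, h0⟩, hs⟩, hp⟩ := h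
  refine ⟨Nat.eq_of_beq_eq_true hl, hnd, h0, fun s hs' => ⟨Nat.blt_eq.mp (hs s hs').1.1, (hs s hs').1.2⟩,
    fun s hs' t ht => ((hs s hs').2 t ht).1, fun s hs' t ht => ((hs s hs').2 t ht).2, fun v hv hu => ?_⟩
  rcases hp v hv with h | ⟨u, hu', hb⟩
  · exact h
  · rw [hu u hu'] at hb; exact absurd hb (by decide)

/-- The preimage of the line. -/
def W : Subgroup G := D.fibSub lnV D.ln_facts.2.2.1 D.ln_facts.2.2.2.2.2.1

theorem mem_W {a : G} : a ∈ D.W ↔ a ∈ J ∧ D.vec a ∈ lnV := Iff.rfl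

theorem card_W : Nat.card D.W = 32 := by
  show Nat.card (D.fib lnV) = 32
  rw [Nat.card_coe_set_eq, D.ncard_fib D.ln_facts.2.1 fun v hv => (D.ln_facts.2.2.2.1 v hv).1,
    D.ln_facts.1]

theorem W_comm {a b : G} (ha : a ∈ D.W) (hb : b ∈ D.W) : a * b = b * a :=
  (D.comm_iff ha.1 hb.1).2 (D.ln_facts.2.2.2.2.1 _ ha.2 _ hb.2)

theorem W_sq {a : G} (ha : a ∈ D.W) : a * a = 1 := by
  rw [D.sq a ha.1, (D.ln_facts.2.2.2.1 _ ha.2).2]; rfl

theorem z_mem_W : z ∈ D.W := ⟨D.z_mem, by rw [D.vec_z]; exact D.ln_facts.2.2.1⟩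

theorem mem_W_of_cent {a : G} (ha : a ∈ J) (h : ∀ w ∈ D.W, a * w = w * a) : a ∈ D.W := by
  refine ⟨ha, D.ln_facts.2.2.2.2.2.2 _ (D.vec_lt a ha) fun u hu => ?_⟩
  obtain ⟨w, hw, rfl⟩ := D.exists_vec (D.ln_facts.2.2.2.1 u hu).1
  exact (D.comm_iff ha hw).1 (h w ⟨hw, hu⟩)

theorem rAll_move {r : List ℕ} (hr : r ∈ rAll) {v : ℕ} (hv : v < 256) :
    v ^^^ ap r v ∈ lnV ∧ (v ∈ lnV → ap r v = v) := by
  have h := rAll_ok
  simp only [Bool.and_eq_true, List.all_eq_true, List.contains_iff_mem, List.mem_range,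
    Bool.or_eq_true, Bool.not_eq_true', beq_iff_eq] at h
  obtain ⟨h1, h2⟩ := (h.2 r hr).2 v hv
  refine ⟨h1, fun hm => h2.resolve_left fun e => ?_⟩
  rw [← Bool.not_eq_true, List.contains_iff_mem] at e
  exact e hm

theorem rB_facts {r : List ℕ} (hr : r ∈ rB) :
    r ∈ rAll ∧ r ≠ mI ∧ r ∉ tvM ∧ ∀ v < 256, ap r v = v → v ∈ lnV := by
  have h := rB_ok
  simp only [Bool.and_eq_true, List.all_eq_true, isInv, Bool.not_eq_true', beq_eq_false_iff_ne,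
    List.mem_range, Bool.or_eq_true, List.contains_iff_mem, beq_iff_eq] at h
  obtain ⟨⟨⟨-, h1⟩, h2⟩, h3⟩ := h.2 r hr
  refine ⟨List.mem_cons_of_mem _ (List.mem_append_left _ hr), h1, fun e => ?_, fun v hv e =>
    (h3 v hv).resolve_left fun e' => e' e⟩
  rw [← Bool.not_eq_true, List.contains_iff_mem] at h2
  exact h2 e

theorem comm_mem_W {x a : G} (hx : x ∈ centralizer ({z} : Set G)) (hr : D.act x ∈ rAll)
    (ha : a ∈ J) : a⁻¹ * (x * a * x⁻¹) ∈ D.W := by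
  have hc := D.conj_mem hx ha
  refine ⟨mul_mem (inv_mem ha) hc, ?_⟩
  rw [D.vec_mul _ (inv_mem ha) _ hc, D.vec_inv ha, D.act_conj _ hx _ ha]
  exact (D.rAll_move hr (D.vec_lt a ha)).1

/-- An involution over `rB` centralises exactly the line in `J`. -/
theorem cent_B {x : G} (hx : x ∈ centralizer ({z} : Set G)) (h2 : x * x = 1) (hr : D.act x ∈ rB) :
    (∀ w ∈ D.W, x * w = w * x) ∧ ∀ a ∈ J, x * a = a * x → a ∈ D.W := by
  classical
  have hfix : ∀ a ∈ J, x * a = a * x → a ∈ D.W := fun a ha h => by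
    refine ⟨ha, (D.rB_facts hr).2.2.2 _ (D.vec_lt a ha) ?_⟩
    rw [← D.act_conj _ hx _ ha, h, mul_inv_cancel_right]
  refine ⟨?_, hfix⟩
  by_contra hc
  push Not at hc
  obtain ⟨w, hw, hne⟩ := hc
  set K : Subgroup G := J ⊓ centralizer ({x} : Set G) with hK
  have hKW : K ≤ D.W := fun a ha => hfix a ha.1 (mem_centralizer_singleton_iff.1 ha.2).symm
  have hlt : Nat.card K ≤ 16 := by
    obtain ⟨m, hm⟩ := Subgroup.card_dvd_of_le hKW
    rw [D.card_W] at hm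
    have hne' : Nat.card K ≠ 32 := fun e => hne (by
      have := (eq_of_le_of_card_ge hKW (by rw [D.card_W, e])).symm ▸ hw
      exact (mem_centralizer_singleton_iff.1 (this : w ∈ K).2).symm)
    have := Nat.card_pos (α := K)
    rcases m with _ | _ | m <;> [omega; omega; nlinarith]
  have horb := H33.FiLocal.card_eq_orbit_mul (M := J) x
  rw [D.card_J] at horb
  have hsub : ((fun m => m * x * m⁻¹) '' (J : Set G)) ⊆ (fun a => x * a) '' (D.W : Set G) := by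
    rintro _ ⟨m, hm, rfl⟩
    refine ⟨x⁻¹ * (m * x * m⁻¹), ?_, by group⟩
    have h1 := D.comm_mem_W hx (D.rB_facts hr).1 (D.conj_mem (inv_mem hx) (inv_mem hm))
    rw [show x⁻¹ * (m * x * m⁻¹) =
      (x⁻¹ * m⁻¹ * x⁻¹⁻¹)⁻¹ * (x * (x⁻¹ * m⁻¹ * x⁻¹⁻¹) * x⁻¹) by group]
    exact h1
  have hcard : ((fun a => x * a) '' (D.W : Set G)).ncard = 32 := by
    rw [Set.ncard_image_of_injective _ (mul_right_injective x), ← Nat.card_coe_set_eq]
    exact D.card_W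
  have heq := Set.eq_of_subset_of_ncard_le hsub (by
    rw [hcard]
    by_contra hlt'
    push Not at hlt'
    have : ((fun m => m * x * m⁻¹) '' (J : Set G)).ncard * Nat.card K < 32 * 16 :=
      Nat.lt_of_lt_of_le (Nat.mul_lt_mul_of_pos_right hlt' Nat.card_pos) (Nat.mul_le_mul_left 32 hlt)
    rw [hK] at this
    omega) (Set.toFinite _)
  obtain ⟨m, -, hm⟩ : x * w ∈ (fun m => m * x * m⁻¹) '' (J : Set G) := heq ▸ ⟨w, hw, rfl⟩
  have hsq : x * w * (x * w) = 1 := by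
    rw [← show m * x * m⁻¹ = x * w from hm, show m * x * m⁻¹ * (m * x * m⁻¹) = m * (x * x) * m⁻¹ by group,
      h2, mul_one, mul_inv_cancel]
  apply hne
  calc x * w = (x * w * (x * w)) * (w⁻¹ * x⁻¹) := by group
    _ = w * x := by
      rw [hsq, one_mul, inv_eq_of_mul_eq_one_right (D.W_sq hw), inv_eq_of_mul_eq_one_right h2]

/-- The abelian group of order `2 ^ 9`. -/
def Ec : Subgroup G := D.preR ⊓ centralizer (D.W : Set G)

theorem mem_Ec {e : G} : e ∈ D.Ec ↔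
    (e ∈ centralizer ({z} : Set G) ∧ D.act e ∈ rAll) ∧ ∀ w ∈ D.W, e * w = w * e := by
  show e ∈ D.preR ∧ e ∈ centralizer (D.W : Set G) ↔ _
  rw [D.mem_preR, mem_centralizer_iff]
  exact ⟨fun h => ⟨h.1, fun w hw => (h.2 w hw).symm⟩, fun h => ⟨h.1, fun w hw => (h.2 w hw).symm⟩⟩

theorem W_le_Ec : D.W ≤ D.Ec := fun w hw =>
  D.mem_Ec.2 ⟨D.J_le_preR hw.1, fun v hv => D.W_comm hw hv⟩

theorem Ec_inf_J {e : G} (he : e ∈ D.Ec) (hJ : e ∈ J) : e ∈ D.W :=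
  D.mem_W_of_cent hJ (D.mem_Ec.1 he).2

theorem J_norm_Ec : J ≤ normalizer (D.Ec : Set G) := fun a ha => by
  refine D.mem_normalizer_of_maps fun e he => ?_
  obtain ⟨⟨heC, her⟩, -⟩ := D.mem_Ec.1 he
  have h := D.comm_mem_W heC her ha
  have h2 : a⁻¹ * (e * a * e⁻¹) ∈ D.Ec := D.W_le_Ec h
  rw [show a * e * a⁻¹ = (a⁻¹ * (e * a * e⁻¹))⁻¹⁻¹⁻¹ * (a⁻¹ * (e * a * e⁻¹)) * (a * e * a⁻¹) by group]
  have h3 : (a⁻¹ * (e * a * e⁻¹)) * (a * e * a⁻¹) ∈ D.Ec := by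
    have h4 : e * a * e⁻¹ * a⁻¹ ∈ D.Ec := by
      rcases D.conj_J ha (D.conj_mem heC ha) with h5 | h5
      · rw [show e * a * e⁻¹ * a⁻¹ = a⁻¹ * (a * (e * a * e⁻¹) * a⁻¹) by group, h5]
        exact h2
      · rw [show e * a * e⁻¹ * a⁻¹ = a⁻¹ * (a * (e * a * e⁻¹) * a⁻¹) by group, h5, ← mul_assoc]
        exact mul_mem h2 (D.W_le_Ec D.z_mem_W)
    rw [show a⁻¹ * (e * a * e⁻¹) * (a * e * a⁻¹) =
      a⁻¹ * (e * a * e⁻¹) * ((e * a * e⁻¹ * a⁻¹)⁻¹ * e) by group]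
    exact mul_mem h2 (mul_mem (inv_mem h4) he)
  rw [inv_inv]
  rw [mul_assoc]
  exact mul_mem (inv_mem h2) h3

theorem word_mover {w : List ℕ} (hw : w ∈ wB ++ wLn) :
    ∃ n ∈ centralizer ({z} : Set G), D.act n = ev w ∧ n ∈ normalizer (D.Ec : Set G) := by
  have h := norm_ok
  simp only [Bool.and_eq_true, List.all_eq_true, List.contains_iff_mem, List.any_eq_true,
    beq_iff_eq] at h
  obtain ⟨⟨hlt, hln⟩, hR⟩ := h w hw
  obtain ⟨n, hn, hne⟩ := D.exists_act fun i hi => Nat.blt_eq.mp (hlt i hi)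
  have hW : n ∈ normalizer (D.W : Set G) := D.mem_normalizer_of_maps fun a ha =>
    ⟨D.conj_mem hn ha.1, by rw [D.act_conj _ hn _ ha.1, hne]; exact hln _ ha.2⟩
  refine ⟨n, hn, hne, D.mem_normalizer_of_maps fun e he => ?_⟩
  obtain ⟨⟨heC, her⟩, hec⟩ := D.mem_Ec.1 he
  obtain ⟨r', hr', hre⟩ := hR _ her
  obtain ⟨y, hy, hye⟩ := D.sylT_facts.2.2.2.2.2 r' (D.sylT_facts.2.2.2.1 r' hr')
  refine D.mem_Ec.2 ⟨⟨mul_mem (mul_mem hn heC) (inv_mem hn), ?_⟩, fun v hv => ?_⟩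
  · rw [D.act_conj_eq hn heC hy (by rw [hne, hye, hre]), hye]
    exact hr'
  · have hv' := (mem_normalizer_iff.1 (inv_mem hW) v).1 hv
    calc n * e * n⁻¹ * v = n * (e * (n⁻¹ * v * n⁻¹⁻¹)) * n⁻¹ := by group
      _ = n * ((n⁻¹ * v * n⁻¹⁻¹) * e) * n⁻¹ := by rw [hec _ hv']
      _ = v * (n * e * n⁻¹) := by group

/-- The ten cosets over `rB` are conjugate in the normaliser. -/
theorem move_B {x : G} (hx : x ∈ centralizer ({z} : Set G)) (hr : D.act x ∈ rB) {r : List ℕ}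
    (hr' : r ∈ rB) : ∃ n ∈ centralizer ({z} : Set G), n ∈ normalizer (D.Ec : Set G) ∧
      D.act (n * x * n⁻¹) = r := by
  have key : ∀ r ∈ rB, ∃ n ∈ centralizer ({z} : Set G), n ∈ normalizer (D.Ec : Set G) ∧
      ∀ y ∈ centralizer ({z} : Set G), D.act y = rB.getD 0 [] → D.act (n * y * n⁻¹) = r := by
    intro r hr
    obtain ⟨k, hk, rfl⟩ := List.getElem_of_mem hr
    have hl : rB.length = 10 := by decide +kernel
    have hwl : wB.length = 10 := by decide +kernel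
    have h := (List.all_eq_true.1 wB_ok) k (List.mem_range.2 (hl ▸ hk))
    rw [beq_iff_eq, List.getD_eq_getElem (l := rB) (n := k) (hn := hk)] at h
    obtain ⟨n, hn, hne, hnN⟩ := D.word_mover (w := wB.getD k []) (List.mem_append_left _ (by
      rw [List.getD_eq_getElem (hn := by omega)]; exact List.getElem_mem _))
    obtain ⟨b, hb, hbe⟩ := D.sylT_facts.2.2.2.2.2 _ (D.sylT_facts.2.2.2.1 _ (D.rB_facts hr).1)
    exact ⟨n, hn, hnN, fun y hy hye => by rw [D.act_conj_eq hn hy hb (by rw [hne, hye, hbe, h]), hbe]⟩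
  obtain ⟨n₁, h1, h1N, h1e⟩ := key _ hr
  obtain ⟨n₂, h2, h2N, h2e⟩ := key _ hr'
  have h0 : rB.getD 0 [] ∈ rB := by decide +kernel
  obtain ⟨b, hb, hbe⟩ := D.sylT_facts.2.2.2.2.2 _ (D.sylT_facts.2.2.2.1 _ (D.rB_facts h0).1)
  refine ⟨n₂ * n₁⁻¹, mul_mem h2 (inv_mem h1), mul_mem h2N (inv_mem h1N), ?_⟩
  have hJb : x⁻¹ * (n₁ * b * n₁⁻¹) ∈ J :=
    (D.act_eq_iff hx (mul_mem (mul_mem h1 hb) (inv_mem h1))).1 (h1e b hb hbe).symm
  have hy : D.act (n₁⁻¹ * x * n₁) = rB.getD 0 [] := by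
    rw [← hbe, D.act_eq_iff (mul_mem (mul_mem (inv_mem h1) hx) h1) hb]
    have := D.conj_mem (inv_mem h1) hJb
    convert this using 1
    group
  rw [show n₂ * n₁⁻¹ * x * (n₂ * n₁⁻¹)⁻¹ = n₂ * (n₁⁻¹ * x * n₁) * n₂⁻¹ by group]
  exact h2e _ (mul_mem (mul_mem (inv_mem h1) hx) h1) hy

end H82.U6Loc.Local
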