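import Cfsg.Agent.H82.U6Loc.Base

/-!
Preimages of sets of vectors and abelian subgroups of the extraspecial group.
-/

set_option autoImplicit false
set_option maxRecDepth 100000
set_option linter.unusedSectionVars false
set_option linter.style.haveILetI false

namespace H82.U6Loc.Local

open Subgroup

variable {G : Type*} [Group G] [Finite G] {z : G} {J : Subgroup G} (D : Local z J)
include D

/-- The preimage of a set of vectors. -/
def fib (l : List ℕ) : Set G := {a | a ∈ J ∧ D.vec a ∈ l}

theorem ncard_fib {l : List ℕ} (hnd : l.Nodup) (hlt : ∀ v ∈ l, v < 256) :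
    (D.fib l).ncard = 2 * l.length := by
  classical
  choose! rep hrep hvec using fun v (hv : v ∈ l) => D.exists_vec (hlt v hv)
  let f : {v // v ∈ l} × Fin 2 → D.fib l := fun p =>
    if p.2 = 0 then ⟨rep p.1, hrep _ p.1.2, by rw [hvec _ p.1.2]; exact p.1.2⟩
    else ⟨rep p.1 * z, mul_mem (hrep _ p.1.2) D.z_mem, by
      rw [D.vec_mul _ (hrep _ p.1.2) _ D.z_mem, D.vec_z, Nat.xor_zero, hvec _ p.1.2]; exact p.1.2⟩
  have hv : ∀ p, D.vec (f p : G) = p.1 := fun p => by
    dsimp only [f]
    split_ifs
    · exact hvec _ p.1.2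
    · rw [D.vec_mul _ (hrep _ p.1.2) _ D.z_mem, D.vec_z, Nat.xor_zero, hvec _ p.1.2]
  have hf : Function.Bijective f := by
    refine ⟨fun p q e => ?_, fun a => ?_⟩
    · have h1 : p.1 = q.1 := Subtype.ext (by rw [← hv p, ← hv q, e])
      refine Prod.ext h1 ?_
      have e' := congrArg (fun x : D.fib l => (x : G)) e
      obtain ⟨a, i⟩ := p
      obtain ⟨b, j⟩ := q
      dsimp at h1
      subst h1
      fin_cases i <;> fin_cases j <;> simp [f, D.z_ne] at e' ⊢
    · have h := a.2.2
      rcases (D.vec_eq_iff (hrep _ h) a.2.1).1 (hvec _ h) with e | e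
      · exact ⟨(⟨_, h⟩, 0), Subtype.ext e.symm⟩
      · exact ⟨(⟨_, h⟩, 1), Subtype.ext e.symm⟩
  rw [← Nat.card_coe_set_eq, ← Nat.card_congr (Equiv.ofBijective f hf), Nat.card_prod, Nat.card_fin,
    Nat.card_congr (Equiv.subtypeEquivRight fun s => (List.mem_toFinset (l := l)).symm),
    Nat.card_eq_fintype_card, Fintype.card_coe, List.toFinset_card_of_nodup hnd, mul_comm]

/-- The subgroup over a closed list of vectors. -/
def fibSub (l : List ℕ) (h0 : 0 ∈ l) (hx : ∀ s ∈ l, ∀ t ∈ l, s ^^^ t ∈ l) : Subgroup G where
  carrier := D.fib l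
  one_mem' := ⟨J.one_mem, by rw [D.vec_one]; exact h0⟩
  mul_mem' {a b} ha hb := ⟨J.mul_mem ha.1 hb.1, by
    rw [D.vec_mul _ ha.1 _ hb.1]; exact hx _ ha.2 _ hb.2⟩
  inv_mem' {a} ha := ⟨J.inv_mem ha.1, by rw [D.vec_inv ha.1]; exact ha.2⟩

theorem nondeg_ok : ((List.range 256).all fun v => Nat.beq v 0 ||
    (List.range 256).any fun u => bv v u) = true := by decide +kernel

theorem center_J {a : G} (ha : a ∈ J) (h : ∀ g ∈ J, a * g = g * a) : a = 1 ∨ a = z := by
  rw [← D.vec_eq_zero a ha]
  have h' := (List.all_eq_true.1 D.nondeg_ok) _ (List.mem_range.2 (D.vec_lt a ha))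
  rw [Bool.or_eq_true] at h'
  refine h'.elim Nat.eq_of_beq_eq_true fun h' => ?_
  obtain ⟨u, hu, hb⟩ := List.any_eq_true.1 h'
  obtain ⟨g, hg, rfl⟩ := D.exists_vec (List.mem_range.1 hu)
  rw [(D.comm_iff ha hg).1 (h g hg)] at hb
  exact absurd hb (by decide)

/-- An abelian subgroup of `J` has order at most `32`. -/
theorem card_abelian_le {A : Subgroup G} (hA : A ≤ J) (hab : ∀ a ∈ A, ∀ b ∈ A, a * b = b * a) :
    Nat.card A ≤ 32 := by
  classical
  haveI := Fintype.ofFinite J
  haveI := Fintype.ofFinite A
  let P : A → J → Prop := fun a g => (a : G) * g = g * a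
  have hswap : ∑ a : A, (Finset.univ.filter fun g : J => P a g).card =
      ∑ g : J, (Finset.univ.filter fun a : A => P a g).card := by
    simp only [Finset.card_filter]
    exact Finset.sum_comm
  have hJ : Fintype.card J = 512 := by rw [← Nat.card_eq_fintype_card, D.card_J]; norm_num
  have hup : ∀ a : A, (Finset.univ.filter fun g : J => P a g).card ≤
      if (a : G) = 1 ∨ (a : G) = z then 512 else 256 := by
    intro a
    split_ifs with h
    · exact le_trans (Finset.card_le_univ _) hJ.le
    · let K : Subgroup J := (centralizer ({(a : G)} : Set G)).subgroupOf J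
      have hK : (Finset.univ.filter fun g : J => P a g).card = Nat.card K := by
        rw [Nat.card_eq_fintype_card, Fintype.card_of_subtype]
        intro g
        simp only [Finset.mem_filter, Finset.mem_univ, true_and]
        show _ ↔ g ∈ K
        rw [mem_subgroupOf, mem_centralizer_singleton_iff]
        exact eq_comm
      have hne : K ≠ ⊤ := fun htop => h (D.center_J (hA a.2) fun g hg => by
        have : (⟨g, hg⟩ : J) ∈ K := htop ▸ mem_top _
        exact (mem_centralizer_singleton_iff.1 (mem_subgroupOf.1 this)).symm)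
      rw [hK]
      have h1 := K.card_mul_index
      have h2 : 2 ≤ K.index := by
        rcases Nat.lt_or_ge K.index 2 with h3 | h3
        · have := K.index_ne_zero_of_finite
          exact absurd (Subgroup.index_eq_one.1 (by omega)) hne
        · exact h3
      rw [D.card_J] at h1
      nlinarith
  have hlow : ∀ g : J, (if (g : G) ∈ A then 2 else 1) * Fintype.card A ≤
      2 * (Finset.univ.filter fun a : A => P a g).card := by
    intro g
    split_ifs with h
    · rw [Finset.filter_true_of_mem fun (a : A) _ => (hab a a.2 g h : P a g), Finset.card_univ]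
    · rw [one_mul]
      by_cases hall : ∀ a : A, P a g
      · rw [Finset.filter_true_of_mem fun a _ => hall a, Finset.card_univ]; omega
      · push Not at hall
        obtain ⟨a₀, ha₀⟩ := hall
        have hb : ∀ a : A, ¬ P a g → bv (D.vec (a : G)) (D.vec (g : G)) = true := fun a ha => by
          simpa [P, D.comm_iff (hA a.2) g.2] using ha
        have hle : (Finset.univ.filter fun a : A => ¬ P a g).card ≤
            (Finset.univ.filter fun a : A => P a g).card := by
          refine Finset.card_le_card_of_injOn (fun a => a₀ * a) (fun a ha => ?_)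
            fun a _ b _ e => mul_left_cancel e
          simp only [Finset.coe_filter, Set.mem_setOf_eq, Finset.mem_univ, true_and] at ha ⊢
          have h1 := hb a₀ ha₀
          have h2 := hb a ha
          show ((a₀ * a : A) : G) * g = g * (a₀ * a : A)
          have e1 := D.comm_J (hA a₀.2) g.2
          have e2 := D.comm_J (hA a.2) g.2
          rw [h1, if_pos rfl] at e1
          rw [h2, if_pos rfl] at e2
          have hzg : z * (a : G) = a * z := (D.zc (D.J_le (hA a.2))).symm
          rw [Subgroup.coe_mul, mul_assoc, e2, ← mul_assoc, ← mul_assoc, e1]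
          rw [mul_assoc ((g : G) * a₀) z, hzg, mul_assoc, mul_assoc, mul_assoc, D.z_sq, mul_one]
        have hsum := Finset.card_filter_add_card_filter_not
          (s := (Finset.univ : Finset A)) (fun a : A => P a g)
        rw [Finset.card_univ] at hsum
        omega
  have hin : ∑ g : J, (if (g : G) ∈ A then (2 : ℕ) else 1) = 512 + Fintype.card A := by
    have : ∀ g : J, (if (g : G) ∈ A then (2 : ℕ) else 1) = 1 + if (g : G) ∈ A then 1 else 0 :=
      fun g => by split_ifs <;> rfl
    simp only [this, Finset.sum_add_distrib, Finset.sum_const, Finset.card_univ, hJ,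
      smul_eq_mul, mul_one, Finset.sum_boole, Nat.cast_id]
    congr 1
    exact Finset.card_bij' (fun g hg => ⟨(g : G), (Finset.mem_filter.1 hg).2⟩)
      (fun a _ => ⟨(a : G), hA a.2⟩) (fun _ _ => Finset.mem_univ _)
      (fun a _ => Finset.mem_filter.2 ⟨Finset.mem_univ _, a.2⟩) (fun _ _ => rfl) (fun _ _ => rfl)
  have hone : ∑ a : A, (if (a : G) = 1 ∨ (a : G) = z then 512 else 256 : ℕ) ≤
      256 * Fintype.card A + 512 := by
    have : ∀ a : A, (if (a : G) = 1 ∨ (a : G) = z then 512 else 256 : ℕ) =
        256 + if (a : G) = 1 ∨ (a : G) = z then 256 else 0 := fun a => by split_ifs <;> rfl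
    simp only [this, Finset.sum_add_distrib, Finset.sum_const, Finset.card_univ, smul_eq_mul,
      ← Finset.sum_filter]
    have h2 : (Finset.univ.filter fun a : A => (a : G) = 1 ∨ (a : G) = z).card ≤ 2 :=
      le_trans (Finset.card_le_card_of_injOn (fun a => (a : G)) (t := ({1, z} : Finset G))
        (fun a ha => by simpa using ha) fun a _ b _ e => Subtype.ext e) Finset.card_le_two
    omega
  have hlow' := Finset.sum_le_sum (s := (Finset.univ : Finset J)) fun g _ => hlow g
  rw [← Finset.sum_mul, ← Finset.mul_sum, hin, ← hswap] at hlow'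
  have hup' := Finset.sum_le_sum (s := (Finset.univ : Finset A)) fun a _ => hup a
  rw [Nat.card_eq_fintype_card]
  nlinarith

end H82.U6Loc.Local
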